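import Groth.Agent.Prufer29.Chain
import Mathlib.RingTheory.Ideal.Height

/-! Subrings of semilocal Prüfer domains; finiteness of the spectrum. -/

set_option autoImplicit false

universe u

namespace Groth.Agent.Prufer29

theorem valuationRing_of_equiv {A B : Type u} [CommRing A] [IsDomain A] [CommRing B] [IsDomain B]
    (e : A ≃+* B) (hA : ∀ (p : Ideal A) [p.IsPrime], ValuationRing (Localization.AtPrime p))
    (q : Ideal B) [q.IsPrime] : ValuationRing (Localization.AtPrime q) := by
  haveI := Ideal.comap_isPrime e.toRingHom q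
  refine (valuationRing_atPrime_iff q).mpr fun a b => ?_
  obtain ⟨c, s, hs, h⟩ := (valuationRing_atPrime_iff (q.comap e.toRingHom)).mp (hA _) (e.symm a) (e.symm b)
  refine ⟨e c, e s, hs, ?_⟩
  rcases h with h | h
  · exact .inl (by simpa using congrArg e h)
  · exact .inr (by simpa using congrArg e h)

theorem finite_maximalSpectrum_of_equiv {A B : Type u} [CommRing A] [CommRing B] (e : A ≃+* B)
    (hA : Finite (MaximalSpectrum A)) : Finite (MaximalSpectrum B) := by
  refine Finite.of_injective (fun m : MaximalSpectrum B =>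
    (⟨m.asIdeal.comap e.toRingHom,
      haveI := m.isMaximal; Ideal.comap_isMaximal_of_surjective _ e.surjective⟩ : MaximalSpectrum A)) ?_
  intro m n h
  have h' := congrArg MaximalSpectrum.asIdeal h
  exact MaximalSpectrum.ext (Ideal.comap_injective_of_surjective _ e.surjective h')

variable {R L : Type u} [CommRing R] [IsDomain R] [Field L] [Algebra R L] [IsFractionRing R L]
  (hR : ∀ (p : Ideal R) [p.IsPrime], ValuationRing (Localization.AtPrime p))
  (hfin : Finite (MaximalSpectrum R)) (K : Subfield L)

include hR hfin in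
/-- The intersection of a semilocal Prüfer domain with a subfield. -/
theorem semilocal_inf :
    (∀ (p : Ideal ↥((algebraMap R L).range ⊓ K.toSubring)) [p.IsPrime],
        ValuationRing (Localization.AtPrime p)) ∧
      Finite (MaximalSpectrum ↥((algebraMap R L).range ⊓ K.toSubring)) ∧
      ∀ x : L, x ∈ K → ∃ a b : L, a ∈ (algebraMap R L).range ⊓ K.toSubring ∧
        b ∈ (algebraMap R L).range ⊓ K.toSubring ∧ b ≠ 0 ∧ x = a / b := by
  obtain ⟨V, hV, hne, hmem⟩ := exists_family (L := L) hR hfin
  let W : Set (ValuationSubring K) := (fun A => A.comap K.subtype) '' V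
  let S : Subring K := (algebraMap R L).range.comap K.subtype
  have hS : ∀ x, x ∈ S ↔ ∀ A ∈ W, x ∈ A := fun x => by
    simp only [W, Set.forall_mem_image]
    exact hmem (x : L)
  let e : S ≃+* ↥((algebraMap R L).range ⊓ K.toSubring) :=
    { toFun := fun x => ⟨((x : K) : L), x.2, (x : K).2⟩
      invFun := fun x => ⟨⟨x.1, x.2.2⟩, x.2.1⟩
      left_inv := fun _ => rfl
      right_inv := fun _ => rfl
      map_mul' := fun _ _ => rfl
      map_add' := fun _ _ => rfl }
  refine ⟨fun p _ => valuationRing_of_equiv e (fun q _ =>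
      valuationRing_intersection W S (hV.image _) hS (hne.image _) q) p,
    finite_maximalSpectrum_of_equiv e (finite_maximalSpectrum W S (hV.image _) hS (hne.image _)),
    fun x hx => ?_⟩
  obtain ⟨a, b, ha, hb, ha0, hab, -⟩ := exists_fraction W S (hV.image _) hS (⟨x, hx⟩ : K)
  refine ⟨(b : L), (a : L), ⟨hb, b.2⟩, ⟨ha, a.2⟩, fun h => ha0 (Subtype.ext h), ?_⟩
  have h := congrArg Subtype.val hab
  rw [eq_div_iff fun h0 => ha0 (Subtype.ext h0)]
  exact h

omit [Field L] [Algebra R L] [IsFractionRing R L] in
theorem height_strictMono (hdim : ringKrullDim R < ⊤) {p q : Ideal R} [p.IsPrime] [q.IsPrime]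
    (h : p < q) : p.height < q.height := by
  haveI : FiniteRingKrullDim R := by
    rw [finiteRingKrullDim_iff_ne_bot_and_top]
    exact ⟨ne_bot_of_le_ne_bot (by simp) (ringKrullDim_nonneg_of_nontrivial (R := R)), hdim.ne⟩
  exact Ideal.height_strict_mono_of_isPrime_of_isPrime h

include hR hfin in
omit [Field L] [Algebra R L] [IsFractionRing R L] in
/-- A semilocal Prüfer domain of finite dimension has finitely many primes. -/
theorem finite_primeSpectrum (hdim : ringKrullDim R < ⊤) : Finite (PrimeSpectrum R) := by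
  haveI : FiniteRingKrullDim R := by
    rw [finiteRingKrullDim_iff_ne_bot_and_top]
    exact ⟨ne_bot_of_le_ne_bot (by simp) (ringKrullDim_nonneg_of_nontrivial (R := R)), hdim.ne⟩
  obtain ⟨N, hN⟩ : ∃ N : ℕ, ∀ p : PrimeSpectrum R, p.asIdeal.height ≤ N := by
    have hb : ringKrullDim R ≠ ⊥ := (finiteRingKrullDim_iff_ne_bot_and_top.mp inferInstance).1
    obtain ⟨d, hd⟩ := WithBot.ne_bot_iff_exists.mp hb
    have hd' : d ≠ ⊤ := by
      rintro rfl
      rw [← hd] at hdim
      exact lt_irrefl _ hdim
    obtain ⟨n, rfl⟩ := WithTop.ne_top_iff_exists.mp hd'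
    refine ⟨n, fun p => ?_⟩
    have h := Ideal.height_le_ringKrullDim_of_ne_top p.isPrime.ne_top
    rw [← hd] at h
    exact WithBot.coe_le_coe.mp h
  have hle : ∀ p : PrimeSpectrum R, ∃ m : MaximalSpectrum R, p.asIdeal ≤ m.asIdeal := fun p => by
    obtain ⟨m, hm, h⟩ := p.asIdeal.exists_le_maximal p.isPrime.ne_top
    exact ⟨⟨m, hm⟩, h⟩
  choose top htop using hle
  refine Finite.of_injective (fun p => ((top p, ⟨p.asIdeal.height.toNat, ?_⟩) :
    MaximalSpectrum R × Fin (N + 1))) fun p q h => ?_
  · have := ENat.toNat_le_toNat (hN p) (ENat.natCast_ne_top N)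
    simp only [ENat.toNat_natCast] at this
    omega
  · simp only [Prod.mk.injEq, Fin.mk.injEq] at h
    obtain ⟨htp, hh⟩ := h
    haveI := (top p).isMaximal.isPrime
    rcases le_or_le_of_le (top p).asIdeal (hR _) p.asIdeal q.asIdeal (htop p) (htp ▸ htop q) with hpq | hpq
    all_goals
      rcases eq_or_lt_of_le hpq with he | hlt
      · first | exact PrimeSpectrum.ext he | exact PrimeSpectrum.ext he.symm
      · have h1 := height_strictMono hdim hlt
        have h2 : p.asIdeal.height = q.asIdeal.height :=
          (ENat.natCast_toNat (ne_top_of_le_ne_top (ENat.natCast_ne_top N) (hN p))).symm.trans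
            ((congrArg Nat.cast hh).trans
              (ENat.natCast_toNat (ne_top_of_le_ne_top (ENat.natCast_ne_top N) (hN q))))
        rw [h2] at h1
        exact absurd h1 (lt_irrefl _)

end Groth.Agent.Prufer29
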