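import Groth.Agent.Prufer29.Saturated
import Mathlib.RingTheory.FinitePresentation
import Mathlib.Algebra.Module.FinitePresentation

/-!
# Finitely presented algebras over Prüfer domains are coherent
-/

set_option autoImplicit false

universe u

open MvPolynomial

namespace Groth.Agent.Prufer29

theorem ideal_finitePresentation {R : Type u} [CommRing R] [IsDomain R]
    (hR : ∀ (p : Ideal R) [p.IsPrime], ValuationRing (Localization.AtPrime p))
    {A : Type u} [CommRing A] [Algebra R A] [Algebra.FinitePresentation R A] (I : Ideal A) (hI : I.FG) :
    Module.FinitePresentation A I := by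
  classical
  obtain ⟨n, f, hf, hker⟩ := Algebra.FinitePresentation.out (R := R) (A := A)
  let P := MvPolynomial (Fin n) R
  obtain ⟨r, h, hh⟩ := Submodule.fg_iff_exists_fin_generating_family.mp hker
  obtain ⟨k, g, hg⟩ := Submodule.fg_iff_exists_fin_generating_family.mp hI
  choose g' hg' using fun i => hf (g i)
  let φ : (Fin (k + r) → P) →ₗ[P] P := Fintype.linearCombination P (Fin.append g' h)
  have hφ : (LinearMap.ker φ).FG := Saturated.fg_of_saturated (fun c hc v hv => by
    rw [LinearMap.mem_ker] at hv ⊢
    rw [← algebraMap_smul P c v, map_smul, smul_eq_mul] at hv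
    exact (mul_eq_zero.mp hv).resolve_left fun h0 => hc (MvPolynomial.C_injective _ _ (h0.trans (map_zero _).symm))) hR
  obtain ⟨s, hs⟩ := hφ
  let ψ : (Fin k → A) →ₗ[A] I :=
    (Fintype.linearCombination A g).codRestrict I fun v => by
      rw [Fintype.linearCombination_apply]
      exact I.sum_mem fun i _ => I.mul_mem_left _ (hg ▸ Submodule.subset_span ⟨i, rfl⟩)
  have hψs : Function.Surjective ψ := fun ⟨x, hx⟩ => by
    rw [← hg] at hx
    obtain ⟨c, hc⟩ := (Submodule.mem_span_range_iff_exists_fun A).mp hx
    exact ⟨c, Subtype.ext ((Fintype.linearCombination_apply A g c).trans hc)⟩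
  let π : (Fin (k + r) → P) → Fin k → A := fun v i => f (v (Fin.castAdd r i))
  refine Module.finitePresentation_of_surjective ψ hψs ⟨s.image π, le_antisymm ?_ ?_⟩
  · rw [Submodule.span_le]
    intro y hy
    obtain ⟨v, hv, rfl⟩ := Finset.mem_image.mp hy
    have hv' : φ v = 0 := by
      rw [← LinearMap.mem_ker, ← hs]; exact Submodule.subset_span hv
    rw [SetLike.mem_coe, LinearMap.mem_ker]
    refine Subtype.ext ?_
    show Fintype.linearCombination A g (π v) = 0
    have := congrArg f hv'
    simp only [φ, Fintype.linearCombination_apply, Fin.sum_univ_add, Fin.append_left, Fin.append_right,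
      smul_eq_mul, map_add, map_sum, map_mul, map_zero, hg'] at this
    have h0 : ∀ i, f (h i) = 0 := fun i => RingHom.mem_ker.mp (hh ▸ Submodule.subset_span ⟨i, rfl⟩ : h i ∈ RingHom.ker f.toRingHom)
    simpa [h0, Fintype.linearCombination_apply, π] using this
  · intro y hy
    rw [LinearMap.mem_ker] at hy
    have hy' : Fintype.linearCombination A g y = 0 := congrArg Subtype.val hy
    choose y' hy'' using fun i => hf (y i)
    have hmem : ∑ i, y' i * g' i ∈ RingHom.ker f.toRingHom := by
      rw [RingHom.mem_ker]
      show f _ = 0
      rw [map_sum, ← hy', Fintype.linearCombination_apply]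
      exact Finset.sum_congr rfl fun i _ => by rw [map_mul, hy'', hg', smul_eq_mul]
    rw [← hh] at hmem
    obtain ⟨c, hc⟩ := (Submodule.mem_span_range_iff_exists_fun P).mp hmem
    let v : Fin (k + r) → P := Fin.append y' (fun i => -c i)
    have hv : v ∈ Submodule.span P (s : Set (Fin (k + r) → P)) := by
      rw [hs, LinearMap.mem_ker]
      simp only [φ, v, Fintype.linearCombination_apply, Fin.sum_univ_add, Fin.append_left, Fin.append_right,
        neg_smul, Finset.sum_neg_distrib, hc]
      simp
    have hπ : π v = y := funext fun i => by simp [π, v, hy'']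
    rw [← hπ]
    clear_value v
    clear hπ
    induction hv using Submodule.span_induction with
    | mem x hx => exact Submodule.subset_span (Finset.mem_image_of_mem π hx)
    | zero =>
      have : π 0 = 0 := funext fun i => by simp [π]
      rw [this]; exact Submodule.zero_mem _
    | add a b _ _ ha hb =>
      have : π (a + b) = π a + π b := funext fun i => by simp [π]
      rw [this]; exact Submodule.add_mem _ ha hb
    | smul a x _ hx =>
      have : π (a • x) = f a • π x := funext fun i => by simp [π]
      rw [this]; exact Submodule.smul_mem _ _ hx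

end Groth.Agent.Prufer29
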