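import Mathlib.RingTheory.Valuation.ValuationSubring
import Mathlib.RingTheory.Localization.AtPrime.Basic
import Mathlib.RingTheory.Localization.FractionRing
import Mathlib.RingTheory.Spectrum.Maximal.Basic
import Mathlib.GroupTheory.OrderOfElement
import Mathlib.Algebra.Field.GeomSum
import Mathlib.Data.Nat.Prime.Basic

/-! Prüfer domains, elementwise; finite intersections of valuation rings. -/

set_option autoImplicit false

universe u

namespace Groth.Agent.Prufer29

open IsLocalization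

/-- Divisibility criterion for the local ring at a prime to be a valuation ring. -/
theorem valuationRing_atPrime_iff {R : Type u} [CommRing R] [IsDomain R] (p : Ideal R) [p.IsPrime] :
    ValuationRing (Localization.AtPrime p) ↔
      ∀ a b : R, ∃ c s : R, s ∉ p ∧ (s * a = c * b ∨ s * b = c * a) := by
  let A := Localization.AtPrime p
  have hinj : Function.Injective (algebraMap R A) :=
    IsLocalization.injective A p.primeCompl_le_nonZeroDivisors
  have key : ∀ a b : R, algebraMap R A b ∣ algebraMap R A a ↔ ∃ c s : R, s ∉ p ∧ s * a = c * b := by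
    intro a b
    constructor
    · rintro ⟨z, hz⟩
      obtain ⟨c, ⟨s, hs⟩, rfl⟩ := exists_mk'_eq p.primeCompl z
      refine ⟨c, s, hs, hinj ?_⟩
      rw [map_mul, map_mul, hz, ← mk'_spec A c ⟨s, hs⟩]
      ring
    · rintro ⟨c, s, hs, h⟩
      refine ⟨mk' A c (⟨s, hs⟩ : p.primeCompl), ?_⟩
      rw [mul_mk'_eq_mk'_of_mul, eq_mk'_iff_mul_eq, ← map_mul, mul_comm a, mul_comm b]
      exact congrArg _ h
  rw [ValuationRing.iff_dvd_total]
  constructor
  · intro h a b
    rcases h.total (algebraMap R A b) (algebraMap R A a) with h | h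
    · obtain ⟨c, s, hs, e⟩ := (key a b).mp h
      exact ⟨c, s, hs, .inl e⟩
    · obtain ⟨c, s, hs, e⟩ := (key b a).mp h
      exact ⟨c, s, hs, .inr e⟩
  · refine fun h => ⟨fun x y => ?_⟩
    obtain ⟨a, s, rfl⟩ := exists_mk'_eq p.primeCompl x
    obtain ⟨b, t, rfl⟩ := exists_mk'_eq p.primeCompl y
    have hx : Associated (mk' A a s) (algebraMap R A a) :=
      ⟨(map_units A s).unit, by rw [IsUnit.unit_spec, mk'_spec]⟩
    have hy : Associated (mk' A b t) (algebraMap R A b) :=
      ⟨(map_units A t).unit, by rw [IsUnit.unit_spec, mk'_spec]⟩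
    rw [hx.dvd_iff_dvd_left, hy.dvd_iff_dvd_right, hy.dvd_iff_dvd_left, hx.dvd_iff_dvd_right]
    obtain ⟨c, u, hu, e | e⟩ := h a b
    · exact .inr ((key a b).mpr ⟨c, u, hu, e⟩)
    · exact .inl ((key b a).mpr ⟨c, u, hu, e⟩)

theorem le_or_le_of_le {R : Type u} [CommRing R] [IsDomain R] (m : Ideal R) [m.IsPrime]
    (hm : ValuationRing (Localization.AtPrime m)) (p q : Ideal R) [p.IsPrime] [q.IsPrime]
    (hp : p ≤ m) (hq : q ≤ m) : p ≤ q ∨ q ≤ p := by
  by_contra! h
  obtain ⟨a, hap, haq⟩ := SetLike.not_le_iff_exists.mp h.1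
  obtain ⟨b, hbq, hbp⟩ := SetLike.not_le_iff_exists.mp h.2
  obtain ⟨c, s, hs, e | e⟩ := (valuationRing_atPrime_iff m).mp hm a b
  · rcases (Ideal.IsPrime.mem_or_mem ‹q.IsPrime› (e ▸ q.mul_mem_left c hbq : s * a ∈ q)) with h | h
    · exact hs (hq h)
    · exact haq h
  · rcases (Ideal.IsPrime.mem_or_mem ‹p.IsPrime› (e ▸ p.mul_mem_left c hap : s * b ∈ p)) with h | h
    · exact hs (hp h)
    · exact hbp h

section Intersection

variable {K : Type u} [Field K]

open IsLocalRing in
/-- Nagata's lemma: a common denominator that is a unit where `x` is integral. -/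
theorem exists_geom_sum {ι : Type*} [Finite ι] (V : ι → ValuationSubring K) (x : K) (N : ℕ) :
    ∃ k : ℕ, N ≤ k ∧ 2 ≤ k ∧ ∀ i,
      (x ∈ V i → (∑ j ∈ Finset.range k, x ^ j) ∈ V i ∧ (∑ j ∈ Finset.range k, x ^ j)⁻¹ ∈ V i ∧
        (∑ j ∈ Finset.range k, x ^ j) ≠ 0) ∧
      (x ∉ V i → ∃ u : K, u ∈ V i ∧ u⁻¹ ∈ V i ∧ u ≠ 0 ∧
        (∑ j ∈ Finset.range k, x ^ j) = x ^ (k - 1) * u) := by
  classical
  cases nonempty_fintype ι
  let bad : ι → ℕ := fun i => if h : x ∈ V i then
    max (ringChar (ResidueField (V i))) (orderOf (residue (V i) ⟨x, h⟩)) else 0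
  obtain ⟨k, hk, hkp⟩ := Nat.exists_infinite_primes (max N (Finset.univ.sup bad + 1))
  refine ⟨k, le_trans (le_max_left _ _) hk, hkp.two_le, fun i => ⟨fun h => ?_, fun h => ?_⟩⟩
  · have hbad : bad i < k := Nat.lt_of_lt_of_le
      (Nat.lt_succ_of_le (Finset.le_sup (Finset.mem_univ i))) (le_trans (le_max_right _ _) hk)
    simp only [bad, dif_pos h, max_lt_iff] at hbad
    let s : V i := ∑ j ∈ Finset.range k, (⟨x, h⟩ : V i) ^ j
    have hs : (s : K) = ∑ j ∈ Finset.range k, x ^ j := map_sum (V i).subtype _ _ |>.trans (by simp)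
    have hu : IsUnit s := by
      rw [← residue_ne_zero_iff_isUnit, map_sum]
      simp only [map_pow]
      set y := residue (V i) ⟨x, h⟩
      by_cases hy : y = 1
      · simp only [hy, one_pow, Finset.sum_const, Finset.card_range, nsmul_eq_mul, mul_one]
        intro h0
        rcases (Nat.dvd_prime hkp).mp ((ringChar.spec _ k).mp h0) with h1 | h1
        · exact CharP.ringChar_ne_one h1
        · omega
      · rw [geom_sum_eq hy]
        refine div_ne_zero (sub_ne_zero.mpr fun h1 => ?_) (sub_ne_zero.mpr hy)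
        rcases (Nat.dvd_prime hkp).mp (orderOf_dvd_of_pow_eq_one h1) with h2 | h2
        · exact hy (orderOf_eq_one_iff.mp h2)
        · omega
    obtain ⟨v, hv⟩ := hu
    rw [← hs]
    refine ⟨s.2, ?_, fun h0 => ?_⟩
    · have : ((s : K))⁻¹ = ((v⁻¹ : (V i)ˣ) : K) := by
        refine inv_eq_of_mul_eq_one_right ?_
        rw [← hv]
        exact_mod_cast congrArg (Subtype.val) v.mul_inv
      rw [this]; exact (v⁻¹ : (V i)ˣ).val.2
    · exact v.ne_zero (by rw [hv]; exact Subtype.ext h0)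
  · have hxi : x⁻¹ ∈ V i := ((V i).mem_or_inv_mem x).resolve_left h
    have hx0 : x ≠ 0 := by rintro rfl; exact h (V i).zero_mem
    have hm : (⟨x⁻¹, hxi⟩ : V i) ∈ maximalIdeal (V i) := by
      rw [mem_maximalIdeal, mem_nonunits_iff]
      rintro ⟨v, hv⟩
      refine h ?_
      have h1 : x = ((v⁻¹ : (V i)ˣ) : K) := by
        rw [← inv_inv x]
        refine inv_eq_of_mul_eq_one_right ?_
        have := congrArg Subtype.val v.mul_inv
        rw [hv] at this
        exact this
      rw [h1]; exact (v⁻¹ : (V i)ˣ).val.2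
    let s : V i := ∑ j ∈ Finset.range k, (⟨x⁻¹, hxi⟩ : V i) ^ j
    have hs : (s : K) = ∑ j ∈ Finset.range k, x⁻¹ ^ j := map_sum (V i).subtype _ _ |>.trans (by simp)
    have hu : IsUnit s := by
      obtain ⟨k', rfl⟩ := Nat.exists_eq_add_of_le hkp.one_le
      rw [← residue_ne_zero_iff_isUnit, map_sum, add_comm 1 k', Finset.sum_range_succ']
      simp only [map_pow, (residue_eq_zero_iff _).mpr hm, pow_zero, zero_pow (Nat.succ_ne_zero _),
        Finset.sum_const_zero, zero_add]
      exact one_ne_zero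
    obtain ⟨v, hv⟩ := hu
    refine ⟨s, s.2, ?_, fun h0 => v.ne_zero (by rw [hv]; exact Subtype.ext h0), ?_⟩
    · have : ((s : K))⁻¹ = ((v⁻¹ : (V i)ˣ) : K) := by
        refine inv_eq_of_mul_eq_one_right ?_
        rw [← hv]
        exact_mod_cast congrArg (Subtype.val) v.mul_inv
      rw [this]; exact (v⁻¹ : (V i)ˣ).val.2
    · rw [hs, Finset.mul_sum, ← Finset.sum_range_reflect]
      refine Finset.sum_congr rfl fun j hj => ?_
      rw [inv_pow, eq_mul_inv_iff_mul_eq₀ (pow_ne_zero _ hx0), ← pow_add]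
      have := Finset.mem_range.mp hj
      congr 1; omega

variable (V : Set (ValuationSubring K)) (S : Subring K) (hV : V.Finite)
  (hS : ∀ x, x ∈ S ↔ ∀ A ∈ V, x ∈ A)

include hV hS in
/-- Fractions in the intersection, with denominator a unit where `x` is integral. -/
theorem exists_fraction (x : K) : ∃ a b : K, a ∈ S ∧ b ∈ S ∧ a ≠ 0 ∧ x * a = b ∧
    ∀ A ∈ V, x ∈ A → a⁻¹ ∈ A := by
  haveI := hV.to_subtype
  obtain ⟨k, -, hk, h⟩ := exists_geom_sum (fun A : V => (A : ValuationSubring K)) x 0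
  set f := ∑ j ∈ Finset.range k, x ^ j
  by_cases hx : ∃ A ∈ V, x ∉ A ∨ x ∈ A
  case neg =>
    exact ⟨1, x, S.one_mem, (hS x).mpr fun A hA => absurd ⟨A, hA, em' _⟩ hx, one_ne_zero, mul_one x,
      fun A hA _ => by rw [inv_one]; exact A.one_mem⟩
  case pos =>
    obtain ⟨A, hA, -⟩ := hx
    have hf : f ≠ 0 := by
      by_cases hxA : x ∈ A
      · exact ((h ⟨A, hA⟩).1 hxA).2.2
      · obtain ⟨u, -, -, hu, e⟩ := (h ⟨A, hA⟩).2 hxA
        exact e ▸ mul_ne_zero (pow_ne_zero _ (by rintro rfl; exact hxA A.zero_mem)) hu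
    refine ⟨f⁻¹, x * f⁻¹, (hS _).mpr fun B hB => ?_, (hS _).mpr fun B hB => ?_, inv_ne_zero hf, rfl,
      fun B hB hxB => by rw [inv_inv]; exact ((h ⟨B, hB⟩).1 hxB).1⟩
    · by_cases hxB : x ∈ B
      · exact ((h ⟨B, hB⟩).1 hxB).2.1
      · obtain ⟨u, -, hu, -, e⟩ := (h ⟨B, hB⟩).2 hxB
        rw [e, mul_inv, ← inv_pow]
        exact B.mul_mem _ _ (pow_mem ((B.mem_or_inv_mem x).resolve_left hxB) _) hu
    · by_cases hxB : x ∈ B
      · exact B.mul_mem _ _ hxB ((h ⟨B, hB⟩).1 hxB).2.1
      · obtain ⟨u, -, hu, -, e⟩ := (h ⟨B, hB⟩).2 hxB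
        have hx0 : x ≠ 0 := by rintro rfl; exact hxB B.zero_mem
        rw [e, mul_inv, show k - 1 = (k - 2) + 1 by omega, pow_succ, mul_inv, ← inv_pow, ← mul_assoc,
          mul_left_comm x, mul_inv_cancel₀ hx0, mul_one]
        exact B.mul_mem _ _ (pow_mem ((B.mem_or_inv_mem x).resolve_left hxB) _) hu

include hS in
theorem le_of_mem {A : ValuationSubring K} (hA : A ∈ V) : S ≤ A.toSubring :=
  fun _ hs => (hS _).mp hs A hA

include hS in
/-- The centres of the valuation rings catch all proper ideals of the intersection. -/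
theorem exists_le_centre (hV : V.Finite) (hne : V.Nonempty) (I : Ideal S) (hI : I ≠ ⊤) :
    ∃ (A : ValuationSubring K) (hA : A ∈ V), I ≤ (IsLocalRing.maximalIdeal A).comap
      (Subring.inclusion (le_of_mem V S hS hA)) := by
  classical
  haveI := hV.fintype
  let f : V → Ideal S := fun A => (IsLocalRing.maximalIdeal (A : ValuationSubring K)).comap
    (Subring.inclusion (le_of_mem V S hS A.2))
  by_contra! h
  obtain ⟨A₀, hA₀⟩ := hne
  have hsub : ¬ (I : Set S) ⊆ ⋃ A ∈ ((Finset.univ : Finset V) : Set V), (f A : Set S) := by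
    rw [Ideal.subset_union_prime ⟨A₀, hA₀⟩ ⟨A₀, hA₀⟩ (fun A _ _ _ => Ideal.comap_isPrime _ _)]
    rintro ⟨A, -, hA⟩
    exact h A A.2 hA
  obtain ⟨s, hsI, hs⟩ := Set.not_subset.mp hsub
  have hs' : ∀ A ∈ V, (s : K) ≠ 0 ∧ (s : K)⁻¹ ∈ A := fun A hA => by
    have hnm : (⟨s, le_of_mem V S hS hA s.2⟩ : A) ∉ IsLocalRing.maximalIdeal A := fun hm =>
      hs (Set.mem_biUnion (Finset.mem_coe.mpr (Finset.mem_univ (⟨A, hA⟩ : V))) hm)
    obtain ⟨v, hv⟩ := IsLocalRing.notMem_maximalIdeal.mp hnm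
    have hv' := congrArg Subtype.val v.mul_inv
    rw [hv] at hv'
    refine ⟨fun h0 => ?_, ?_⟩
    · exact one_ne_zero (hv'.symm.trans (show (s : K) * _ = 0 by rw [h0, zero_mul]))
    · rw [inv_eq_of_mul_eq_one_right hv']
      exact (v⁻¹ : Aˣ).val.2
  refine hI (I.eq_top_of_isUnit_mem hsI ?_)
  exact .of_mul_eq_one (b := ⟨(s : K)⁻¹, (hS _).mpr fun A hA => (hs' A hA).2⟩)
    (Subtype.ext (mul_inv_cancel₀ (hs' A₀ hA₀).1))

include hV hS in
/-- A finite intersection of valuation rings is a Prüfer domain. -/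
theorem valuationRing_intersection (hne : V.Nonempty) (p : Ideal S) [p.IsPrime] :
    ValuationRing (Localization.AtPrime p) := by
  obtain ⟨A, hA, hpA⟩ := exists_le_centre V S hS hV hne p Ideal.IsPrime.ne_top'
  have key : ∀ a b : S, (b : K) ≠ 0 → (a : K) / b ∈ A → ∃ c s : S, s ∉ p ∧ s * a = c * b := by
    intro a b hb hx
    obtain ⟨α, β, hα, hβ, hα0, hαβ, hu⟩ := exists_fraction V S hV hS ((a : K) / b)
    refine ⟨⟨β, hβ⟩, ⟨α, hα⟩, fun hp => ?_, Subtype.ext ?_⟩
    · have hm := hpA hp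
      rw [Ideal.mem_comap, IsLocalRing.mem_maximalIdeal] at hm
      exact hm (.of_mul_eq_one (b := (⟨α⁻¹, hu A hA hx⟩ : A)) (Subtype.ext (mul_inv_cancel₀ hα0)))
    · show α * (a : K) = β * b
      rw [← hαβ]; field_simp
  refine (valuationRing_atPrime_iff p).mpr fun a b => ?_
  by_cases hb : (b : K) = 0
  · exact ⟨0, 1, (Ideal.ne_top_iff_one p).mp Ideal.IsPrime.ne_top', .inr (by
      rw [show b = 0 from Subtype.ext hb, mul_zero, zero_mul])⟩
  by_cases ha : (a : K) = 0
  · exact ⟨0, 1, (Ideal.ne_top_iff_one p).mp Ideal.IsPrime.ne_top', .inl (by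
      rw [show a = 0 from Subtype.ext ha, mul_zero, zero_mul])⟩
  rcases A.mem_or_inv_mem ((a : K) / b) with h | h
  · obtain ⟨c, s, hs, e⟩ := key a b hb h
    exact ⟨c, s, hs, .inl e⟩
  · rw [inv_div] at h
    obtain ⟨c, s, hs, e⟩ := key b a ha h
    exact ⟨c, s, hs, .inr e⟩

include hV hS in
theorem finite_maximalSpectrum (hne : V.Nonempty) : Finite (MaximalSpectrum S) := by
  haveI := hV.to_subtype
  choose A hA hle using fun m : MaximalSpectrum S =>
    exists_le_centre V S hS hV hne m.asIdeal m.isMaximal.ne_top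
  refine Finite.of_injective (fun m => (⟨A m, hA m⟩ : V)) fun m n h => MaximalSpectrum.ext ?_
  have h' : A m = A n := congrArg Subtype.val h
  have key : ∀ m : MaximalSpectrum S, m.asIdeal = (IsLocalRing.maximalIdeal (A m)).comap
      (Subring.inclusion (le_of_mem V S hS (hA m))) := fun m =>
    m.isMaximal.eq_of_le (Ideal.comap_isPrime _ _).ne_top (hle m)
  have heq : ∀ (B C : ValuationSubring K) (hB : S ≤ B.toSubring) (hC : S ≤ C.toSubring), B = C →
      (IsLocalRing.maximalIdeal B).comap (Subring.inclusion hB) =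
        (IsLocalRing.maximalIdeal C).comap (Subring.inclusion hC) := by
    rintro B C hB hC rfl
    rfl
  rw [key m, key n]
  exact heq _ _ _ _ h'

end Intersection

section Semilocal

variable {R L : Type u} [CommRing R] [IsDomain R] [Field L] [Algebra R L] [IsFractionRing R L]

/-- The local ring at a prime, as a subring of the fraction field. -/
def localSubring (L : Type u) [Field L] [Algebra R L] (p : Ideal R) [p.IsPrime] : Subring L where
  carrier := {x | ∃ s : R, s ∉ p ∧ ∃ r : R, algebraMap R L s * x = algebraMap R L r}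
  one_mem' := ⟨1, (Ideal.ne_top_iff_one p).mp Ideal.IsPrime.ne_top', 1, by simp⟩
  zero_mem' := ⟨1, (Ideal.ne_top_iff_one p).mp Ideal.IsPrime.ne_top', 0, by simp⟩
  mul_mem' := by
    rintro x y ⟨s, hs, r, e⟩ ⟨t, ht, q, e'⟩
    exact ⟨s * t, fun h => (Ideal.IsPrime.mem_or_mem ‹_› h).elim hs ht, r * q, by
      rw [map_mul, map_mul, ← e, ← e']; ring⟩
  add_mem' := by
    rintro x y ⟨s, hs, r, e⟩ ⟨t, ht, q, e'⟩
    exact ⟨s * t, fun h => (Ideal.IsPrime.mem_or_mem ‹_› h).elim hs ht, t * r + s * q, by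
      rw [map_mul, map_add, map_mul, map_mul, ← e, ← e']; ring⟩
  neg_mem' := by
    rintro x ⟨s, hs, r, e⟩
    exact ⟨s, hs, -r, by rw [mul_neg, e, map_neg]⟩

theorem mem_range_iff (x : L) :
    x ∈ (algebraMap R L).range ↔ ∀ m : MaximalSpectrum R, x ∈ localSubring L m.asIdeal := by
  constructor
  · rintro ⟨r, rfl⟩ m
    exact ⟨1, (Ideal.ne_top_iff_one _).mp m.isMaximal.ne_top, r, by simp⟩
  · intro h
    let I : Ideal R :=
      { carrier := {s | algebraMap R L s * x ∈ (algebraMap R L).range}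
        add_mem' := fun ha hb => by
          show algebraMap R L (_ + _) * x ∈ (algebraMap R L).range
          rw [map_add, add_mul]; exact add_mem ha hb
        zero_mem' := by
          show algebraMap R L 0 * x ∈ (algebraMap R L).range
          rw [map_zero, zero_mul]; exact zero_mem _
        smul_mem' := fun c s hs => by
          show algebraMap R L (c * s) * x ∈ (algebraMap R L).range
          rw [map_mul, mul_assoc]; exact mul_mem ⟨c, rfl⟩ hs }
    have hI : I = ⊤ := by
      by_contra hI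
      obtain ⟨m, hm, hle⟩ := I.exists_le_maximal hI
      obtain ⟨s, hs, r, e⟩ := h ⟨m, hm⟩
      exact hs (hle ⟨r, e.symm⟩)
    have h1 : (1 : R) ∈ I := hI ▸ Submodule.mem_top
    simpa [I] using h1

/-- The local rings of a Prüfer domain as valuation subrings. -/
theorem exists_valuationSubring (p : Ideal R) [p.IsPrime] (hp : ValuationRing (Localization.AtPrime p)) :
    ∃ V : ValuationSubring L, V.toSubring = localSubring L p := by
  refine ⟨ValuationSubring.ofSubring (localSubring L p) fun x => ?_, rfl⟩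
  obtain ⟨a, b, hb, rfl⟩ := IsFractionRing.div_surjective (A := R) x
  have hb' : algebraMap R L b ≠ 0 := IsFractionRing.to_map_ne_zero_of_mem_nonZeroDivisors hb
  obtain ⟨c, s, hs, e | e⟩ := (valuationRing_atPrime_iff p).mp hp a b
  · exact .inl ⟨s, hs, c, by rw [← mul_div_assoc, ← map_mul, e, map_mul, mul_div_assoc, div_self hb', mul_one]⟩
  · by_cases ha : algebraMap R L a = 0
    · exact .inl ⟨s, hs, 0, by rw [ha, zero_div, mul_zero, map_zero]⟩
    · exact .inr ⟨s, hs, c, by rw [inv_div, ← mul_div_assoc, ← map_mul, e, map_mul, mul_div_assoc, div_self ha, mul_one]⟩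

/-- A semilocal Prüfer domain is a finite intersection of valuation rings. -/
theorem exists_family (hR : ∀ (p : Ideal R) [p.IsPrime], ValuationRing (Localization.AtPrime p))
    (hfin : Finite (MaximalSpectrum R)) :
    ∃ V : Set (ValuationSubring L), V.Finite ∧ V.Nonempty ∧
      ∀ x, x ∈ (algebraMap R L).range ↔ ∀ A ∈ V, x ∈ A := by
  choose A hA using fun m : MaximalSpectrum R => exists_valuationSubring (L := L) m.asIdeal (hR _)
  refine ⟨Set.range A, Set.finite_range A, ?_, fun x => ?_⟩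
  · obtain ⟨m, hm⟩ := Ideal.exists_maximal R
    exact ⟨_, ⟨m, hm⟩, rfl⟩
  · rw [mem_range_iff]
    simp only [Set.forall_mem_range]
    exact forall_congr' fun m => by rw [← hA m]; rfl

end Semilocal

end Groth.Agent.Prufer29
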