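import Groth.Agent.Prufer29.Basic
import Mathlib.RingTheory.MvPolynomial.Basic
import Mathlib.LinearAlgebra.Matrix.Block
import Mathlib.LinearAlgebra.Matrix.NonsingularInverse
import Mathlib.RingTheory.Spectrum.Prime.Topology
import Mathlib.Topology.Spectral.ConstructibleTopology
import Mathlib.Order.WellQuasiOrder
import Mathlib.Data.Finsupp.Lex
import Mathlib.Data.Finsupp.Weight
import Mathlib.Data.Finsupp.Interval
import Mathlib.Data.Finsupp.PWO

/-!
# Saturated submodules of free modules over polynomial rings over Prüfer domains are finitely generated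
-/

set_option autoImplicit false

universe u

open MvPolynomial

namespace Groth.Agent.Prufer29.Saturated

variable {R : Type u} [CommRing R] {n m : ℕ}

/-- Positions of coefficients. -/
abbrev Pos (n m : ℕ) : Type := Fin m ×ₗ Lex (Fin n →₀ ℕ)

variable (R n m) in
/-- The free module. -/
abbrev Vec : Type u := Fin m → MvPolynomial (Fin n) R

/-- A position. -/
def pos (j : Fin m) (a : Fin n →₀ ℕ) : Pos n m := toLex (j, toLex a)

/-- The index of a position. -/
def idx (s : Pos n m) : Fin m := (ofLex s).1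

/-- The exponent of a position. -/
def expo (s : Pos n m) : Fin n →₀ ℕ := ofLex (ofLex s).2

@[simp] theorem idx_pos (j : Fin m) (a : Fin n →₀ ℕ) : idx (pos j a) = j := rfl
@[simp] theorem expo_pos (j : Fin m) (a : Fin n →₀ ℕ) : expo (pos j a) = a := rfl
@[simp] theorem pos_idx_expo (s : Pos n m) : pos (idx s) (expo s) = s := rfl

/-- The coefficient at a position. -/
noncomputable def cf (s : Pos n m) : Vec R n m →ₗ[R] R := (lcoeff R (expo s)).comp (LinearMap.proj (idx s))

theorem cf_apply (s : Pos n m) (v : Vec R n m) : cf s v = (v (idx s)).coeff (expo s) := rfl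

theorem ext_cf {v w : Vec R n m} (h : ∀ s, cf s v = cf s w) : v = w :=
  funext fun j => MvPolynomial.ext _ _ fun a => h (pos j a)

theorem finite_ne_zero (v : Vec R n m) : {s : Pos n m | cf s v ≠ 0}.Finite := by
  refine ((Set.finite_univ (α := Fin m)).biUnion fun j _ =>
    ((v j).support.finite_toSet.image (pos j))).subset fun s hs => ?_
  exact Set.mem_biUnion (Set.mem_univ (idx s)) ⟨expo s, mem_support_iff.mpr hs, rfl⟩

/-- Degree at most `d`. -/
def DegLE (d : ℕ) (v : Vec R n m) : Prop := ∀ s, cf s v ≠ 0 → (expo s).degree ≤ d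

theorem finite_degree_le (d : ℕ) : {s : Pos n m | (expo s).degree ≤ d}.Finite := by
  refine ((Set.finite_univ (α := Fin m)).biUnion fun j _ =>
    ((Set.finite_Iic (Finsupp.equivFunOnFinite.symm fun _ => d : Fin n →₀ ℕ)).image (pos j))).subset fun s hs => ?_
  exact Set.mem_biUnion (Set.mem_univ (idx s))
    ⟨expo s, fun i => (Finsupp.le_degree i _).trans hs, rfl⟩

/-- `s` is the leading position of `v` modulo `p`. -/
def Lead (p : Ideal R) (s : Pos n m) (v : Vec R n m) : Prop := cf s v ∉ p ∧ ∀ t, s < t → cf t v ∈ p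

variable (M : Submodule (MvPolynomial (Fin n) R) (Vec R n m))

/-- Leading positions in degree at most `d`. -/
def Leads (p : Ideal R) (d : ℕ) : Set (Pos n m) := {s | ∃ v ∈ M, DegLE d v ∧ Lead p s v}

variable {M}

theorem leads_subset {p : Ideal R} {d : ℕ} {s : Pos n m} (h : s ∈ Leads M p d) : (expo s).degree ≤ d := by
  obtain ⟨v, -, hd, hv, -⟩ := h
  exact hd s fun h0 => hv (h0 ▸ p.zero_mem)

theorem finite_leads (p : Ideal R) (d : ℕ) : (Leads M p d).Finite :=
  (finite_degree_le d).subset fun _ h => leads_subset h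

/-- Multiplication by a monomial. -/
noncomputable def shift (e : Fin n →₀ ℕ) (v : Vec R n m) : Vec R n m := monomial e (1 : R) • v

theorem cf_shift (e : Fin n →₀ ℕ) (v : Vec R n m) (s : Pos n m) :
    cf s (shift e v) = if e ≤ expo s then cf (pos (idx s) (expo s - e)) v else 0 := by
  simp [shift, cf_apply, coeff_monomial_mul']

theorem degLE_shift {e : Fin n →₀ ℕ} {v : Vec R n m} {d d' : ℕ} (h : DegLE d v) (hd : e.degree + d ≤ d') :
    DegLE d' (shift e v) := by
  intro s hs
  rw [cf_shift] at hs
  split_ifs at hs with he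
  · have := h _ hs
    rw [expo_pos] at this
    have h2 : (expo s).degree = e.degree + (expo s - e).degree := by
      rw [← map_add, add_tsub_cancel_of_le he]
    omega
  · exact absurd rfl hs

theorem lead_shift {p : Ideal R} {e : Fin n →₀ ℕ} {v : Vec R n m} {j : Fin m} {a : Fin n →₀ ℕ}
    (h : Lead p (pos j a) v) : Lead p (pos j (a + e)) (shift e v) := by
  constructor
  · rw [cf_shift, expo_pos, idx_pos, if_pos le_add_self, add_tsub_cancel_right]
    exact h.1
  · intro t ht
    rw [cf_shift]
    split_ifs with he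
    · refine h.2 _ ?_
      obtain ⟨i, b, rfl⟩ : ∃ i b, pos i (b + e) = t :=
        ⟨idx t, expo t - e, by rw [tsub_add_cancel_of_le he, pos_idx_expo]⟩
      rw [idx_pos, expo_pos, add_tsub_cancel_right]
      simp only [pos, Prod.Lex.toLex_lt_toLex] at ht ⊢
      refine ht.imp id fun h' => ⟨h'.1, ?_⟩
      rw [toLex_add, toLex_add] at h'
      exact lt_of_add_lt_add_right h'.2
    · exact p.zero_mem

/-- The vector with one nonzero coefficient. -/
noncomputable def unitVec (s : Pos n m) : Vec R n m := Pi.single (idx s) (monomial (expo s) 1)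

theorem cf_unitVec (s t : Pos n m) : cf t (unitVec s : Vec R n m) = if t = s then 1 else 0 := by
  classical
  rw [cf_apply, unitVec]
  by_cases h : idx t = idx s
  · rw [h, Pi.single_eq_same, coeff_monomial]
    refine if_congr ⟨fun e => ?_, fun e => by rw [e]⟩ rfl rfl
    rw [← pos_idx_expo t, ← pos_idx_expo s, h, e]
  · rw [Pi.single_eq_of_ne h, coeff_zero, if_neg]
    exact fun e => h (by rw [e])

theorem exists_max_dvd [IsDomain R] (p : Ideal R) [p.IsPrime] (hV : ValuationRing (Localization.AtPrime p))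
    {α : Type*} (T : Finset α) (f : α → R) :
    T.Nonempty → (∀ x ∈ T, f x ≠ 0) →
      ∃ t ∈ T, ∀ x ∈ T, ∃ r s : R, s ∉ p ∧ s * f x = r * f t := by
  classical
  induction T using Finset.induction_on with
  | empty => intro h; simp at h
  | @insert a T ha ih =>
    intro _ hne
    rcases T.eq_empty_or_nonempty with rfl | hT
    · exact ⟨a, by simp, fun x hx => ⟨1, 1, Ideal.IsPrime.one_notMem ‹_›, by
        simp at hx; rw [hx]⟩⟩
    obtain ⟨t, ht, h⟩ := ih hT fun x hx => hne x (Finset.mem_insert_of_mem hx)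
    obtain ⟨c, s, hs, e | e⟩ := (valuationRing_atPrime_iff p).mp hV (f a) (f t)
    · refine ⟨t, Finset.mem_insert_of_mem ht, fun x hx => ?_⟩
      rcases Finset.mem_insert.mp hx with rfl | hx
      · exact ⟨c, s, hs, e⟩
      · exact h x hx
    · refine ⟨a, Finset.mem_insert_self _ _, fun x hx => ?_⟩
      rcases Finset.mem_insert.mp hx with rfl | hx
      · exact ⟨1, 1, Ideal.IsPrime.one_notMem ‹_›, rfl⟩
      · obtain ⟨r, s', hs', e'⟩ := h x hx
        exact ⟨r * c, s * s', fun hm => (Ideal.IsPrime.mem_or_mem ‹_› hm).elim hs hs', by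
          linear_combination s * e' + r * e⟩

variable [IsDomain R] (hsat : ∀ r : R, r ≠ 0 → ∀ v : Vec R n m, r • v ∈ M → v ∈ M)
include hsat

/-- The projection to the leading positions is injective. -/
theorem eq_zero_of_leads (p : Ideal R) [p.IsPrime] (hV : ValuationRing (Localization.AtPrime p)) {d : ℕ}
    {w : Vec R n m} (hw : w ∈ M) (hd : DegLE d w) (h : ∀ s ∈ Leads M p d, cf s w = 0) : w = 0 := by
  classical
  by_contra hne
  let T := (finite_ne_zero w).toFinset
  have hT : T.Nonempty := by
    rw [Finset.nonempty_iff_ne_empty]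
    refine fun h0 => hne (ext_cf fun s => ?_)
    rw [map_zero]
    by_contra hs
    exact (Finset.notMem_empty s) (h0 ▸ (finite_ne_zero w).mem_toFinset.mpr hs)
  obtain ⟨t, ht, hall⟩ := exists_max_dvd p hV T (fun s => cf s w) hT fun x hx => (finite_ne_zero w).mem_toFinset.mp hx
  choose! r σ hσ hr using hall
  let u : Vec R n m := ∑ x ∈ T, ((∏ y ∈ T.erase x, σ y) * r x) • unitVec x
  have hu : ∀ s, cf s u = if s ∈ T then (∏ y ∈ T.erase s, σ y) * r s else 0 := fun s => by
    simp [u, cf_unitVec]
  have hcoef : ∀ s, cf t w * cf s u = (∏ y ∈ T, σ y) * cf s w := fun s => by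
    rw [hu]
    split_ifs with hs
    · rw [← Finset.mul_prod_erase T σ hs]
      linear_combination -(∏ y ∈ T.erase s, σ y) * hr s hs
    · have : cf s w = 0 := not_not.mp fun h' => hs ((finite_ne_zero w).mem_toFinset.mpr h')
      rw [this, mul_zero, mul_zero]
  have htw : cf t w ≠ 0 := (finite_ne_zero w).mem_toFinset.mp ht
  have huM : u ∈ M := by
    refine hsat _ htw u ?_
    have : cf t w • u = (∏ y ∈ T, σ y) • w := ext_cf fun s => by
      rw [map_smul, map_smul, smul_eq_mul, smul_eq_mul, hcoef]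
    rw [this, ← algebraMap_smul (MvPolynomial (Fin n) R)]
    exact M.smul_mem _ hw
  have hne' : ∀ s, cf s u ≠ 0 → cf s w ≠ 0 := fun s hs => by
    rw [hu] at hs
    split_ifs at hs with h'
    · exact (finite_ne_zero w).mem_toFinset.mp h'
    · exact absurd rfl hs
  have hP : cf t u ∉ p := by
    intro hm
    have := mul_left_cancel₀ htw ((hcoef t).trans (mul_comm _ _))
    rw [this] at hm
    obtain ⟨y, hy, hy'⟩ := Ideal.IsPrime.prod_mem_iff.mp hm
    exact hσ y hy hy'
  let T' := T.filter fun s => cf s u ∉ p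
  have hT' : T'.Nonempty := ⟨t, Finset.mem_filter.mpr ⟨ht, hP⟩⟩
  let s := T'.max' hT'
  have hs := Finset.mem_filter.mp (T'.max'_mem hT')
  refine (finite_ne_zero w).mem_toFinset.mp hs.1 (h s ⟨u, huM, fun x hx => hd x (hne' x hx), hs.2, fun x hx => ?_⟩)
  by_contra hxp
  exact not_lt.mpr (T'.le_max' x (Finset.mem_filter.mpr
    ⟨(finite_ne_zero w).mem_toFinset.mpr (hne' x fun h0 => hxp (h0 ▸ p.zero_mem)), hxp⟩)) hx

/-- Elements with the leading positions of `p` at `p'` span, away from `p'`. -/
theorem exists_mul_mem_of_leads (p p' : Ideal R) [p.IsPrime] [p'.IsPrime]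
    (hV : ValuationRing (Localization.AtPrime p)) {N : Submodule (MvPolynomial (Fin n) R) (Vec R n m)}
    (hN : N ≤ M) {d : ℕ} (h : ∀ s ∈ Leads M p d, ∃ v ∈ N, DegLE d v ∧ Lead p' s v)
    {w : Vec R n m} (hw : w ∈ M) (hd : DegLE d w) : ∃ D : R, D ∉ p' ∧ D • w ∈ N := by
  classical
  let S := (finite_leads (M := M) p d).toFinset
  choose v hvN hvd hvl using fun s : S => h s.1 ((finite_leads p d).mem_toFinset.mp s.2)
  let A : Matrix S S R := Matrix.of fun s t => cf s.1 (v t)
  have hdet : A.det ∉ p' := by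
    intro hm
    rw [← Ideal.Quotient.eq_zero_iff_mem, RingHom.map_det, RingHom.mapMatrix_apply,
      Matrix.det_of_isUpperTriangular fun s t (hst : t < s) => by
        simp only [Matrix.map_apply, A, Matrix.of_apply, Ideal.Quotient.eq_zero_iff_mem]
        exact (hvl t).2 s.1 hst] at hm
    obtain ⟨s, -, hs⟩ := Finset.prod_eq_zero_iff.mp hm
    exact (hvl s).1 (Ideal.Quotient.eq_zero_iff_mem.mp hs)
  let c := A.adjugate.mulVec fun s => cf s.1 w
  have hc : A.mulVec c = A.det • fun s : S => cf s.1 w := by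
    rw [Matrix.mulVec_mulVec, Matrix.mul_adjugate, Matrix.smul_mulVec, Matrix.one_mulVec]
  let w' := A.det • w - ∑ t, c t • v t
  have hsum : ∑ t, c t • v t ∈ N := N.sum_mem fun t _ => by
    rw [← algebraMap_smul (MvPolynomial (Fin n) R)]; exact N.smul_mem _ (hvN t)
  have hw' : w' = 0 := by
    refine eq_zero_of_leads hsat p hV (d := d) ?_ (fun s hs => ?_) fun s hs => ?_
    · refine M.sub_mem ?_ (hN hsum)
      rw [← algebraMap_smul (MvPolynomial (Fin n) R)]; exact M.smul_mem _ hw
    · by_contra hlt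
      have h1 : cf s w = 0 := not_not.mp fun h' => hlt (hd s h')
      have h2 : ∀ t, cf s (v t) = 0 := fun t => not_not.mp fun h' => hlt (hvd t s h')
      simp [w', h1, h2] at hs
    · have := congrFun hc ⟨s, (finite_leads p d).mem_toFinset.mpr hs⟩
      simp only [Matrix.mulVec, dotProduct, A, Matrix.of_apply, Pi.smul_apply, smul_eq_mul] at this
      simp only [w', map_sub, map_smul, map_sum, smul_eq_mul]
      rw [← this, sub_eq_zero]
      exact Finset.sum_congr rfl fun t _ => mul_comm _ _
  exact ⟨A.det, hdet, by rw [sub_eq_zero.mp hw']; exact hsum⟩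

variable (hR : ∀ (p : Ideal R) [p.IsPrime], ValuationRing (Localization.AtPrime p))
include hR

/-- Near each prime, finitely many elements generate. -/
theorem exists_local (p : PrimeSpectrum R) :
    ∃ (G : Finset (Vec R n m)) (U : Set (PrimeSpectrum R)), (G : Set (Vec R n m)) ⊆ M ∧ p ∈ U ∧
      @IsOpen _ (constructibleTopology (PrimeSpectrum R)) U ∧
      ∀ q ∈ U, ∀ w ∈ M, ∃ D : R, D ∉ q.asIdeal ∧ D • w ∈ Submodule.span (MvPolynomial (Fin n) R) (G : Set (Vec R n m)) := by
  classical
  let X : Fin m → Set ((Fin n →₀ ℕ) × ℕ) := fun j => {x | pos j x.1 ∈ Leads M p.asIdeal (x.1.degree + x.2)}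
  have hfin : ∀ j, {x | Minimal (· ∈ X j) x}.Finite := fun j =>
    WellQuasiOrderedLE.finite_of_isAntichain (setOfPred_minimal_antichain _)
  let E : Set (Fin m × (Fin n →₀ ℕ) × ℕ) := {y | Minimal (· ∈ X y.1) y.2}
  have hE : E.Finite := by
    refine ((Set.finite_univ (α := Fin m)).biUnion fun j _ => (hfin j).image (Prod.mk j)).subset fun y hy => ?_
    exact Set.mem_biUnion (Set.mem_univ y.1) ⟨y.2, hy, rfl⟩
  choose g hgM hgd hgl using fun y : hE.toFinset => (hE.mem_toFinset.mp y.2).1
  let G : Finset (Vec R n m) := Finset.univ.image g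
  let U : Set (PrimeSpectrum R) := ⋂ y : hE.toFinset,
    ((PrimeSpectrum.basicOpen (cf (pos y.1.1 y.1.2.1) (g y)) : Set (PrimeSpectrum R)) ∩
      ⋂ t ∈ ((finite_ne_zero (g y)).toFinset.filter fun t => pos y.1.1 y.1.2.1 < t),
        PrimeSpectrum.zeroLocus {cf t (g y)})
  have hU : ∀ q : PrimeSpectrum R, q ∈ U ↔ ∀ y, Lead q.asIdeal (pos y.1.1 y.1.2.1) (g y) := fun q => by
    simp only [U, Set.mem_iInter, Set.mem_inter_iff, SetLike.mem_coe, PrimeSpectrum.mem_basicOpen,
      PrimeSpectrum.mem_zeroLocus, Set.singleton_subset_iff, Finset.mem_filter, Set.Finite.mem_toFinset,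
      Set.mem_ofPred_eq]
    refine forall_congr' fun y => and_congr_right fun _ => ⟨fun h t ht => ?_, fun h t ht => h t ht.2⟩
    by_cases h0 : cf t (g y) = 0
    · rw [h0]; exact q.asIdeal.zero_mem
    · exact h t ⟨h0, ht⟩
  refine ⟨G, U, ?_, (hU p).mpr hgl, ?_, fun q hq w hw => ?_⟩
  · rintro v hv
    obtain ⟨y, -, rfl⟩ := Finset.mem_image.mp hv
    exact hgM y
  · refine @isOpen_iInter_of_finite _ _ (constructibleTopology (PrimeSpectrum R)) _ _ fun y => ?_
    refine @IsOpen.inter _ (constructibleTopology (PrimeSpectrum R)) _ _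
      ((PrimeSpectrum.isCompact_basicOpen _).isOpen_constructibleTopology_of_isOpen PrimeSpectrum.isOpen_basicOpen) ?_
    refine @isOpen_biInter_finset _ _ (constructibleTopology (PrimeSpectrum R)) _ _ fun t _ => ?_
    refine IsCompact.isOpen_constructibleTopology_of_isClosed ?_ (PrimeSpectrum.isClosed_zeroLocus _)
    rw [← PrimeSpectrum.basicOpen_eq_zeroLocus_compl]
    exact PrimeSpectrum.isCompact_basicOpen _
  · let T := (finite_ne_zero w).toFinset
    refine exists_mul_mem_of_leads hsat p.asIdeal q.asIdeal (hR _) (d := T.sup fun s => (expo s).degree)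
      (Submodule.span_le.mpr ?_) ?_ hw
      fun s hs => Finset.le_sup (f := fun s => (expo s).degree) ((finite_ne_zero w).mem_toFinset.mpr hs)
    · rintro v hv
      obtain ⟨y, -, rfl⟩ := Finset.mem_image.mp hv
      exact hgM y
    intro s hs
    set d := T.sup fun s => (expo s).degree
    have hsd := leads_subset hs
    have hx : (expo s, d - (expo s).degree) ∈ X (idx s) := by
      show pos (idx s) (expo s) ∈ Leads M p.asIdeal ((expo s).degree + (d - (expo s).degree))
      rw [pos_idx_expo, Nat.add_sub_cancel' hsd]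
      exact hs
    obtain ⟨⟨a, k⟩, hle, hmin⟩ := exists_minimal_le_of_wellFoundedLT (· ∈ X (idx s)) _ hx
    let y : hE.toFinset := ⟨(idx s, a, k), hE.mem_toFinset.mpr hmin⟩
    obtain ⟨hle1, hle2⟩ : a ≤ expo s ∧ k ≤ d - (expo s).degree := hle
    refine ⟨shift (expo s - a) (g y), Submodule.smul_mem _ _ (Submodule.subset_span
      (Finset.mem_coe.mpr (Finset.mem_image_of_mem _ (Finset.mem_univ y)))), degLE_shift (hgd y) ?_, ?_⟩
    · have h2 : (expo s).degree = a.degree + (expo s - a).degree := by
        rw [← map_add, add_tsub_cancel_of_le hle1]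
      show (expo s - a).degree + (a.degree + k) ≤ d
      omega
    · have := lead_shift (e := expo s - a) ((hU q).mp hq y)
      rwa [add_tsub_cancel_of_le hle1, pos_idx_expo] at this

/-- A saturated submodule of a free module over a polynomial ring over a Prüfer domain is finitely
generated. -/
theorem fg_of_saturated : M.FG := by
  classical
  choose G U hG hpU hopen hgen using exists_local hsat hR
  obtain ⟨T, hT⟩ := isCompact_univ.elim_finite_subcover
    (fun p => (WithTopology.ofTopology ⁻¹' U p : Set (WithConstructibleTopology (PrimeSpectrum R))))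
    (fun p => @IsOpen.preimage _ _ _ (constructibleTopology (PrimeSpectrum R)) _ (WithTopology.continuous_ofTopology _) _ (hopen p))
    fun q _ => Set.mem_iUnion.mpr ⟨WithTopology.ofTopology q, hpU _⟩
  refine ⟨T.biUnion G, le_antisymm (Submodule.span_le.mpr fun v hv => ?_) fun w hw => ?_⟩
  · obtain ⟨p, -, hp⟩ := Finset.mem_biUnion.mp hv
    exact hG p hp
  set N := Submodule.span (MvPolynomial (Fin n) R) (↑(T.biUnion G) : Set (Vec R n m))
  let I : Ideal R := ((N.restrictScalars R).comap (LinearMap.toSpanSingleton R (Vec R n m) w))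
  suffices hI : I = ⊤ by
    have : (1 : R) ∈ I := hI ▸ trivial
    simpa [I] using this
  by_contra hI
  obtain ⟨q, hq, hIq⟩ := Ideal.exists_le_maximal I hI
  obtain ⟨p, hpT, hqp⟩ : ∃ p ∈ T, (⟨q, hq.isPrime⟩ : PrimeSpectrum R) ∈ U p := by
    simpa using hT (Set.mem_univ (WithTopology.toTopology _ (⟨q, hq.isPrime⟩ : PrimeSpectrum R)))
  obtain ⟨D, hD, hDw⟩ := hgen p _ hqp w hw
  exact hD (hIq (show D • w ∈ N from Submodule.span_mono (Finset.coe_subset.mpr
    (Finset.subset_biUnion_of_mem G hpT)) hDw))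

end Groth.Agent.Prufer29.Saturated
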