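import Groth.Agent.Prufer29.Basic
import Mathlib.RingTheory.AlgebraicIndependent.TranscendenceBasis
import Mathlib.RingTheory.PrincipalIdealDomain
import Mathlib.RingTheory.KrullDimension.Basic
import Mathlib.Algebra.Ring.Subring.IntPolynomial

/-! Chains of primes in Prüfer domains with finitely generated fraction field. -/

set_option autoImplicit false

universe u

namespace Groth.Agent.Prufer29

variable {S : Type u} [CommRing S] [IsDomain S]

open MvPolynomial in
/-- Elements separating a chain of primes are algebraically independent over the prime ring, as long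
as the contractions to the integers do not jump. -/
theorem eq_zero_of_eval₂ {r : ℕ} (P : Fin (r + 1) → Ideal S) [∀ i, (P i).IsPrime]
    (hmono : Monotone P) (hlast : ValuationRing (Localization.AtPrime (P (Fin.last r))))
    {ι : Type*} [Fintype ι] [LinearOrder ι] (g : ι → Fin r) (hg : StrictMono g)
    (b : ι → S) (hb : ∀ i, b i ∈ P (g i).succ ∧ b i ∉ P (g i).castSucc)
    (hflat : ∀ (i : ι) (n : ℤ), (n : S) ∈ P (g i).succ → (n : S) ∈ P (g i).castSucc)
    (F : MvPolynomial ι ℤ) (hF : MvPolynomial.eval₂ (Int.castRingHom S) b F = 0) (e : ι →₀ ℕ) :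
    ((MvPolynomial.coeff e F : ℤ) : S) = 0 := by
  classical
  let pr : (ι →₀ ℕ) → S := fun e => ∏ i, b i ^ e i
  let t : (ι →₀ ℕ) → S := fun e => ((coeff e F : ℤ) : S) * pr e
  have hb0 : ∀ i, b i ≠ 0 := fun i h => (hb i).2 (by rw [h]; exact zero_mem _)
  have hpr0 : ∀ e, pr e ≠ 0 := fun e => Finset.prod_ne_zero_iff.mpr fun i _ => pow_ne_zero _ (hb0 i)
  -- monomials in variables above a level avoid the prime at that level
  have hhigh : ∀ (i : ι) (u : ι →₀ ℕ), (∀ l, l < i → u l = 0) → pr u ∉ P (g i).castSucc := by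
    intro i u hu h
    obtain ⟨l, -, hl⟩ := Ideal.IsPrime.prod_mem_iff.mp h
    rcases lt_or_ge l i with hli | hli
    · rw [hu l hli, pow_zero] at hl
      exact (Ideal.ne_top_iff_one _).mp Ideal.IsPrime.ne_top' hl
    · refine (hb l).2 (hmono ?_ (Ideal.IsPrime.mem_of_pow_mem inferInstance _ hl))
      exact Fin.castSucc_le_castSucc_iff.mpr (hg.monotone hli)
  -- the key impossibility
  have hkey : ∀ (c d : S), c ∉ P (Fin.last r) → d ∉ P (Fin.last r) → ∀ (n n' : ℤ), (n : S) ≠ 0 →
      (n' : S) ≠ 0 → ∀ (u w : ι →₀ ℕ) (i : ι), (∀ l, l < i → u l = 0) → (∀ l, l < i → w l = 0) →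
      u i ≠ 0 → w i = 0 → d * ((n : S) * pr u) = c * ((n' : S) * pr w) → False := by
    intro c d hc hd n n' hn hn' u w i hu hw hui hwi he
    have hwsucc : pr w ∉ P (g i).succ := by
      intro h
      obtain ⟨l, -, hl⟩ := Ideal.IsPrime.prod_mem_iff.mp h
      rcases lt_trichotomy l i with hli | hli | hli
      · rw [hw l hli, pow_zero] at hl
        exact (Ideal.ne_top_iff_one _).mp Ideal.IsPrime.ne_top' hl
      · rw [hli, hwi, pow_zero] at hl
        exact (Ideal.ne_top_iff_one _).mp Ideal.IsPrime.ne_top' hl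
      · refine (hb l).2 (hmono ?_ (Ideal.IsPrime.mem_of_pow_mem inferInstance _ hl))
        exact Fin.succ_le_castSucc_iff.mpr (hg hli)
    have husucc : pr u ∈ P (g i).succ := Ideal.IsPrime.prod_mem_iff.mpr
      ⟨i, Finset.mem_univ _, Ideal.pow_mem_of_mem _ (hb i).1 _ (Nat.pos_of_ne_zero hui)⟩
    have hjr : ∀ (j : Fin (r + 1)) {x : S}, x ∉ P (Fin.last r) → x ∉ P j := fun j x hx h =>
      hx (hmono (Fin.le_last j) h)
    -- cancel a common factor of the integers
    obtain ⟨m, m', hm, hm', he', hdiv⟩ : ∃ m m' : ℤ, (m : S) ≠ 0 ∧ (m' : S) ≠ 0 ∧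
        d * ((m : S) * pr u) = c * ((m' : S) * pr w) ∧ Int.gcd m m' = 1 := by
      have hg0 : (Int.gcd n n' : S) ≠ 0 := by
        intro h
        obtain ⟨q, hq⟩ := Int.gcd_dvd_left n n'
        exact hn (by rw [hq]; push_cast; rw [h, zero_mul])
      obtain ⟨q, hq⟩ := Int.gcd_dvd_left n n'
      obtain ⟨q', hq'⟩ := Int.gcd_dvd_right n n'
      refine ⟨q, q', fun h => hn (by rw [hq]; push_cast; rw [h, mul_zero]),
        fun h => hn' (by rw [hq']; push_cast; rw [h, mul_zero]), mul_left_cancel₀ hg0 ?_, ?_⟩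
      · generalize hG : (Int.gcd n n' : ℕ) = G at hq hq' ⊢
        subst hq hq'
        push_cast at he
        linear_combination he
      · have hg' : Int.gcd n n' ≠ 0 := fun h => hg0 (by rw [h, Nat.cast_zero])
        have := Int.gcd_div_gcd_div_gcd (Nat.pos_of_ne_zero hg')
        rwa [show n / (Int.gcd n n' : ℤ) = q from Int.ediv_eq_of_eq_mul_right (by exact_mod_cast hg') hq,
          show n' / (Int.gcd n n' : ℤ) = q' from Int.ediv_eq_of_eq_mul_right (by exact_mod_cast hg') hq'] at this
    have h1 : c * ((m' : S) * pr w) ∈ P (g i).succ := he' ▸ Ideal.mul_mem_left _ _ (Ideal.mul_mem_left _ _ husucc)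
    have h2 : (m' : S) ∈ P (g i).succ := by
      rcases Ideal.IsPrime.mem_or_mem inferInstance h1 with h | h
      · exact absurd h (hjr _ hc)
      · exact (Ideal.IsPrime.mem_or_mem inferInstance h).resolve_right hwsucc
    have h3 : (m' : S) ∈ P (g i).castSucc := hflat i m' h2
    have h4 : d * ((m : S) * pr u) ∈ P (g i).castSucc :=
      he'.symm ▸ Ideal.mul_mem_left _ _ (Ideal.mul_mem_right _ _ h3)
    have h5 : (m : S) ∈ P (g i).castSucc := by
      rcases Ideal.IsPrime.mem_or_mem inferInstance h4 with h | h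
      · exact absurd h (hjr _ hd)
      · exact (Ideal.IsPrime.mem_or_mem inferInstance h).resolve_right (hhigh i u hu)
    obtain ⟨x, y, hxy⟩ := Int.isCoprime_iff_gcd_eq_one.mpr hdiv
    refine (Ideal.ne_top_iff_one (P (g i).castSucc)).mp Ideal.IsPrime.ne_top' ?_
    have := (P (g i).castSucc).add_mem ((P (g i).castSucc).mul_mem_left (x : S) h5)
      ((P (g i).castSucc).mul_mem_left (y : S) h3)
    have e : (x : S) * (m : S) + (y : S) * (m' : S) = 1 := by exact_mod_cast congrArg (Int.cast : ℤ → S) hxy
    rwa [e] at this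
  by_contra hne
  let T := F.support.filter fun e => ((coeff e F : ℤ) : S) ≠ 0
  have heT : e ∈ T := Finset.mem_filter.mpr ⟨mem_support_iff.mpr fun h => hne (by rw [h, Int.cast_zero]), hne⟩
  have htT : ∀ e ∈ T, t e ≠ 0 := fun e he => mul_ne_zero (Finset.mem_filter.mp he).2 (hpr0 e)
  let A := Localization.AtPrime (P (Fin.last r))
  have hinj : Function.Injective (algebraMap S A) :=
    IsLocalization.injective A (P (Fin.last r)).primeCompl_le_nonZeroDivisors
  -- a term dividing all others
  have hmax : ∀ T' : Finset (ι →₀ ℕ), T'.Nonempty → ∃ f ∈ T', ∀ e ∈ T', algebraMap S A (t f) ∣ algebraMap S A (t e) := by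
    intro T' hT'
    induction hT' using Finset.Nonempty.cons_induction with
    | singleton a => exact ⟨a, Finset.mem_singleton_self a, fun e he => by rw [Finset.mem_singleton.mp he]⟩
    | cons a s ha hs ih =>
      obtain ⟨f, hf, hfall⟩ := ih
      rcases (ValuationRing.iff_dvd_total.mp hlast).total (algebraMap S A (t f)) (algebraMap S A (t a)) with h | h
      · refine ⟨f, Finset.mem_cons_of_mem hf, fun e he => ?_⟩
        rcases Finset.mem_cons.mp he with rfl | he
        exacts [h, hfall e he]
      · refine ⟨a, Finset.mem_cons_self a s, fun e he => ?_⟩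
        rcases Finset.mem_cons.mp he with rfl | he
        exacts [dvd_rfl, h.trans (hfall e he)]
  obtain ⟨f, hf, hfall⟩ := hmax T ⟨e, heT⟩
  choose! z hz using hfall
  have hsum : ∑ e ∈ T, algebraMap S A (t e) = 0 := by
    rw [← map_sum, show ∑ e ∈ T, t e = 0 from ?_, map_zero]
    rw [← hF, eval₂_eq', Finset.sum_filter_of_ne fun e _ h => ?_]
    · rfl
    · exact fun h0 => h (by simp only [t]; rw [h0, zero_mul])
  rw [← Finset.insert_erase hf, Finset.sum_insert (Finset.notMem_erase f T),
    Finset.sum_congr rfl (fun e he => hz e (Finset.mem_of_mem_erase he)), ← Finset.mul_sum] at hsum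
  have hf0 : algebraMap S A (t f) ≠ 0 := fun h => htT f hf (hinj (h.trans (map_zero _).symm))
  have hone : (1 : A) + ∑ e ∈ T.erase f, z e = 0 := by
    refine (mul_eq_zero.mp ?_).resolve_left hf0
    rw [mul_add, mul_one]; exact hsum
  obtain ⟨e', he', hu⟩ : ∃ e' ∈ T.erase f, IsUnit (z e') := by
    by_contra! h
    have hm : ∑ e ∈ T.erase f, z e ∈ IsLocalRing.maximalIdeal A :=
      sum_mem fun e he => (IsLocalRing.mem_maximalIdeal _).mpr (h e he)
    rw [eq_neg_of_add_eq_zero_right hone, neg_mem_iff] at hm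
    exact (IsLocalRing.mem_maximalIdeal _).mp hm isUnit_one
  obtain ⟨c, ⟨d, hd⟩, hcd⟩ := IsLocalization.exists_mk'_eq (P (Fin.last r)).primeCompl (z e')
  have hc : c ∉ P (Fin.last r) := fun h =>
    (IsLocalization.AtPrime.isUnit_mk'_iff A (P (Fin.last r)) c ⟨d, hd⟩).mp (hcd ▸ hu) h
  have hrel : d * t e' = c * t f := hinj (by
    rw [map_mul (algebraMap S A) d, map_mul (algebraMap S A) c, hz e' (Finset.mem_of_mem_erase he'), ← hcd,
      ← IsLocalization.mk'_spec A c (⟨d, hd⟩ : (P (Fin.last r)).primeCompl)]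
    ring)
  -- cancel the common monomial
  let cm : ι →₀ ℕ := Finsupp.equivFunOnFinite.symm fun i => min (e' i) (f i)
  let u : ι →₀ ℕ := e' - cm
  let w : ι →₀ ℕ := f - cm
  have hsplit : ∀ v : ι →₀ ℕ, (∀ i, cm i ≤ v i) → pr v = pr cm * pr (v - cm) := fun v hv => by
    simp only [pr, ← Finset.prod_mul_distrib, ← pow_add, Finsupp.tsub_apply]
    exact Finset.prod_congr rfl fun i _ => by rw [Nat.add_sub_cancel' (hv i)]
  have hrel' : d * (((coeff e' F : ℤ) : S) * pr u) = c * (((coeff f F : ℤ) : S) * pr w) := by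
    refine mul_left_cancel₀ (hpr0 cm) ?_
    simp only [t] at hrel
    rw [hsplit e' fun i => min_le_left _ _, hsplit f fun i => min_le_right _ _] at hrel
    linear_combination hrel
  have hdiff : (Finset.univ.filter fun i => e' i ≠ f i).Nonempty := by
    by_contra h
    exact (Finset.ne_of_mem_erase he') (Finsupp.ext fun i => by_contra fun hi => h ⟨i, Finset.mem_filter.mpr ⟨Finset.mem_univ _, hi⟩⟩)
  let i := (Finset.univ.filter fun i => e' i ≠ f i).min' hdiff
  have hi : e' i ≠ f i := (Finset.mem_filter.mp (Finset.min'_mem _ hdiff)).2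
  have hlow : ∀ l, l < i → e' l = f l := fun l hl => by
    by_contra h
    exact absurd (Finset.min'_le _ l (Finset.mem_filter.mpr ⟨Finset.mem_univ _, h⟩)) (not_le.mpr hl)
  have hu0 : ∀ l, l < i → u l = 0 := fun l hl => by simp [u, cm, hlow l hl]
  have hw0 : ∀ l, l < i → w l = 0 := fun l hl => by simp [w, cm, hlow l hl]
  have hne' : ((coeff e' F : ℤ) : S) ≠ 0 := (Finset.mem_filter.mp (Finset.mem_of_mem_erase he')).2
  have hnef : ((coeff f F : ℤ) : S) ≠ 0 := (Finset.mem_filter.mp hf).2
  rcases lt_or_gt_of_ne hi with hlt | hlt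
  · exact hkey d c hd hc _ _ hnef hne' w u i hw0 hu0 (by simp [w, cm]; omega) (by simp [u, cm]; omega) hrel'.symm
  · exact hkey c d hc hd _ _ hne' hnef u w i hu0 hw0 (by simp [u, cm]; omega) (by simp [w, cm]; omega) hrel'

/-- The image of the integers. -/
abbrev primeRing (K : Type u) [Field K] : Subring K := (Int.castRingHom K).range

/-- A chain of primes in a Prüfer domain is no longer than the transcendence degree of its fraction
field plus one. -/
theorem chain_length_le {K : Type u} [Field K] [Algebra S K] (hinj : Function.Injective (algebraMap S K))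
    (s : Finset K) (hs : Subfield.closure (↑s : Set K) = ⊤)
    (hS : ∀ (p : Ideal S) [p.IsPrime], ValuationRing (Localization.AtPrime p))
    (c : LTSeries (PrimeSpectrum S)) : c.length ≤ s.card + 1 := by
  classical
  let P : Fin (c.length + 1) → Ideal S := fun i => (c i).asIdeal
  haveI : ∀ i, (P i).IsPrime := fun i => (c i).isPrime
  have hmono : Monotone P := fun i j hij => PrimeSpectrum.asIdeal_le_asIdeal _ _ |>.mpr (c.monotone hij)
  have hlt : ∀ j : Fin c.length, P j.castSucc < P j.succ := fun j =>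
    PrimeSpectrum.asIdeal_lt_asIdeal _ _ |>.mpr (c.step j)
  let J : Finset (Fin c.length) := Finset.univ.filter fun j =>
    ∀ n : ℤ, (n : S) ∈ P j.succ → (n : S) ∈ P j.castSucc
  have hJ : (Finset.univ \ J).card ≤ 1 := by
    rw [Finset.card_le_one]
    suffices ∀ a b, a ∈ Finset.univ \ J → b ∈ Finset.univ \ J → ¬ a < b by
      intro a ha b hb
      rcases lt_trichotomy a b with h | h | h
      exacts [absurd h (this a b ha hb), h, absurd h (this b a hb ha)]
    intro a b ha hb hab
    simp only [J, Finset.mem_sdiff, Finset.mem_univ, Finset.mem_filter, true_and, not_forall] at ha hb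
    obtain ⟨n, hn, hn'⟩ := ha
    obtain ⟨m, hm, hm'⟩ := hb
    let φ : ℤ →+* S := Int.castRingHom S
    let q : Fin (c.length + 1) → Ideal ℤ := fun i => (P i).comap φ
    have h1 : q a.castSucc < q a.succ :=
      lt_of_le_of_ne (Ideal.comap_mono (hlt a).le) fun h => hn' (show n ∈ q a.castSucc from h ▸ hn)
    have h2 : q b.castSucc < q b.succ :=
      lt_of_le_of_ne (Ideal.comap_mono (hlt b).le) fun h => hm' (show m ∈ q b.castSucc from h ▸ hm)
    have h12 : q a.succ ≤ q b.castSucc := Ideal.comap_mono (hmono (Fin.succ_le_castSucc_iff.mpr hab))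
    haveI : (q a.succ).IsPrime := Ideal.comap_isPrime _ _
    haveI : (q b.succ).IsPrime := Ideal.comap_isPrime _ _
    have hmax : (q a.succ).IsMaximal := IsPrime.to_maximal_ideal (bot_le.trans_lt h1).ne'
    exact absurd (hmax.eq_of_le Ideal.IsPrime.ne_top' (h12.trans h2.le)) (h12.trans_lt h2).ne
  have hchoice : ∀ j : Fin c.length, ∃ x, x ∈ P j.succ ∧ x ∉ P j.castSucc := fun j =>
    SetLike.exists_of_lt (hlt j)
  choose x hx using hchoice
  let R₀ := primeRing K
  have hind : AlgebraicIndependent R₀ (fun j : J => algebraMap S K (x j)) := by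
    rw [algebraicIndependent_iff]
    intro F hF
    obtain ⟨G, rfl⟩ := MvPolynomial.map_surjective (Int.castRingHom K).rangeRestrict
      (Int.castRingHom K).rangeRestrict_surjective F
    rw [MvPolynomial.aeval_def, MvPolynomial.eval₂_map,
      show (algebraMap R₀ K).comp (Int.castRingHom K).rangeRestrict = (algebraMap S K).comp (Int.castRingHom S) from
        RingHom.ext_int _ _,
      show (fun j : J => algebraMap S K (x j)) = algebraMap S K ∘ (fun j : J => x j) from rfl,
      ← MvPolynomial.eval₂_comp_left, map_eq_zero_iff _ hinj] at hF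
    ext e
    rw [MvPolynomial.coeff_map, MvPolynomial.coeff_zero]
    have h := eq_zero_of_eval₂ P hmono (hS _) (fun j : J => (j : Fin c.length)) (fun a b h => h)
      (fun j => x j) (fun j => hx j) (fun j n => (Finset.mem_filter.mp j.2).2 n) G hF e
    have h' := congrArg (algebraMap S K) h
    rw [map_intCast, map_zero] at h'
    exact h'
  have htr : J.card ≤ s.card := by
    let B := Algebra.adjoin R₀ (↑s : Set K)
    haveI : Algebra.IsAlgebraic B K := ⟨fun z => by
      suffices hfrac : ∃ a b : B, (b : K) ≠ 0 ∧ z * b = a by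
        obtain ⟨a, b, hb, he⟩ := hfrac
        refine ⟨Polynomial.C b * Polynomial.X - Polynomial.C a, fun h => hb ?_, ?_⟩
        · have := congrArg (Polynomial.coeff · 1) h
          simp only [Polynomial.coeff_sub, Polynomial.coeff_C_mul, Polynomial.coeff_X_one, mul_one,
            Polynomial.coeff_C_succ, sub_zero, Polynomial.coeff_zero] at this
          rw [this]; rfl
        · rw [map_sub, map_mul, Polynomial.aeval_C, Polynomial.aeval_C, Polynomial.aeval_X]
          show (b : K) * z - (a : K) = 0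
          rw [mul_comm, he, sub_self]
      have hz : z ∈ Subfield.closure (↑s : Set K) := hs ▸ Subfield.mem_top z
      rw [Subfield.mem_closure_iff] at hz
      obtain ⟨y, hy, w, hw, rfl⟩ := hz
      have hle : Subring.closure (↑s : Set K) ≤ B.toSubring := Subring.closure_le.mpr Algebra.subset_adjoin
      by_cases hw0 : w = 0
      · exact ⟨0, 1, one_ne_zero, by rw [hw0, div_zero, zero_mul]; rfl⟩
      · exact ⟨⟨y, hle hy⟩, ⟨w, hle hw⟩, hw0, div_mul_cancel₀ y hw0⟩⟩
    obtain ⟨t, hts, ht⟩ := exists_isTranscendenceBasis_subset (R := R₀) (↑s : Set K)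
    have h1 := hind.lift_cardinalMk_le_trdeg
    rw [← ht.cardinalMk_eq_trdeg, Cardinal.mk_coe_finset, Cardinal.lift_natCast] at h1
    have h2 : (Cardinal.mk t : Cardinal.{u}) ≤ (s.card : Cardinal.{u}) :=
      (Cardinal.mk_le_mk_of_subset hts).trans (by rw [Finset.coe_sort_coe, Cardinal.mk_coe_finset])
    have h3 := h1.trans (Cardinal.lift_le.mpr h2)
    rw [Cardinal.lift_natCast, Nat.cast_le] at h3
    exact h3
  have := Finset.card_sdiff_add_card_eq_card (Finset.subset_univ J)
  rw [Finset.card_univ, Fintype.card_fin] at this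
  omega

end Groth.Agent.Prufer29
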