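import Groth.Agent.Prufer29.Saturated
import Groth.Agent.E4O.DimField
import Groth.Agent.E4O.ValDim

/-!
# The dimension function of algebras of finite type over Prüfer domains
-/

set_option autoImplicit false

universe u

namespace Groth.Agent.Prufer29

open Groth.Agent.E4O

/-- Residual transcendence degree. -/
noncomputable def tr (R : Type u) {S : Type u} [CommRing R] [CommRing S] [Algebra R S] (P : Ideal S) : ℕ :=
  Cardinal.toNat (Algebra.trdeg (R ⧸ P.under R) (S ⧸ P))

variable {R S : Type u} [CommRing R] [CommRing S] [Algebra R S]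

theorem tr_eq_of_liesOver (p : Ideal R) (P : Ideal S) [P.LiesOver p] :
    tr R P = Cardinal.toNat (Algebra.trdeg (R ⧸ p) (S ⧸ P)) := by
  rw [tr, trdeg_congr_under P p (Ideal.LiesOver.over (P := P) (p := p)).symm]

/-- The prime of the fibre attached to a prime over `p`. -/
theorem exists_fiber_prime (p : Ideal R) [p.IsPrime] (P : Ideal S) [P.IsPrime] [P.LiesOver p] :
    (PrimeSpectrum.primesOverOrderIsoFiber R S p ⟨P, inferInstance, inferInstance⟩).asIdeal.comap
      Algebra.TensorProduct.includeRight.toRingHom = P := by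
  have := (PrimeSpectrum.primesOverOrderIsoFiber R S p).symm_apply_apply ⟨P, inferInstance, inferInstance⟩
  exact congrArg Subtype.val this

theorem height_quot_add_trdeg (k F : Type u) [Field k] [CommRing F] [Algebra k F] [Algebra.FiniteType k F]
    (P Q : Ideal F) [P.IsPrime] [Q.IsPrime] (h : P ≤ Q) :
    ((Q.map (Ideal.Quotient.mk P)).height : Cardinal.{u}) + Algebra.trdeg k (F ⧸ Q) = Algebra.trdeg k (F ⧸ P) := by
  haveI : Algebra.FiniteType k (F ⧸ P) :=
    Algebra.FiniteType.of_surjective (Ideal.Quotient.mkₐ k P) Ideal.Quotient.mk_surjective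
  haveI : (Q.map (Ideal.Quotient.mk P)).IsPrime :=
    Ideal.map_isPrime_of_surjective Ideal.Quotient.mk_surjective (by rw [Ideal.mk_ker]; exact h)
  have hd := height_add_trdeg_eq k (F ⧸ P) (Q.map (Ideal.Quotient.mk P))
  have e : Algebra.trdeg k ((F ⧸ P) ⧸ Q.map (Ideal.Quotient.mk P)) = Algebra.trdeg k (F ⧸ Q) :=
    trdeg_eq_of_ringEquiv (RingEquiv.refl k) (DoubleQuot.quotQuotEquivQuotOfLE h) (RingHom.ext fun _ => rfl)
  rwa [e] at hd

/-- Strict drop of the transcendence degree in an algebra of finite type over a field, by one for coverings. -/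
theorem trdeg_step (k F : Type u) [Field k] [CommRing F] [Algebra k F] [Algebra.FiniteType k F]
    (P Q : Ideal F) [P.IsPrime] [Q.IsPrime] (h : P < Q) :
    Cardinal.toNat (Algebra.trdeg k (F ⧸ Q)) < Cardinal.toNat (Algebra.trdeg k (F ⧸ P)) ∧
      ((∀ M : Ideal F, M.IsPrime → P < M → ¬ M < Q) →
        Cardinal.toNat (Algebra.trdeg k (F ⧸ P)) = Cardinal.toNat (Algebra.trdeg k (F ⧸ Q)) + 1) := by
  have hd := height_quot_add_trdeg k F P Q h.le
  let Q' : Ideal (F ⧸ P) := Q.map (Ideal.Quotient.mk P)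
  have hQ' : Q'.IsPrime :=
    Ideal.map_isPrime_of_surjective Ideal.Quotient.mk_surjective (by rw [Ideal.mk_ker]; exact h.le)
  have hback : Q'.comap (Ideal.Quotient.mk P) = Q := by
    rw [Ideal.comap_map_of_surjective _ Ideal.Quotient.mk_surjective, ← RingHom.ker_eq_comap_bot, Ideal.mk_ker]
    exact sup_eq_left.2 h.le
  have hne : (⊥ : Ideal (F ⧸ P)) < Q' := bot_lt_iff_ne_bot.2 fun h0 => h.ne (by
    rw [← hback, h0, ← RingHom.ker_eq_comap_bot, Ideal.mk_ker])
  haveI : Algebra.FiniteType k (F ⧸ P) :=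
    Algebra.FiniteType.of_surjective (Ideal.Quotient.mkₐ k P) Ideal.Quotient.mk_surjective
  haveI : Algebra.FiniteType k (F ⧸ Q) :=
    Algebra.FiniteType.of_surjective (Ideal.Quotient.mkₐ k Q) Ideal.Quotient.mk_surjective
  obtain ⟨a, ha⟩ : ∃ a : ℕ, Q'.height = a := ⟨_, (ENat.coe_toNat (fun ht => by
    rw [show (Q.map (Ideal.Quotient.mk P)).height = ⊤ from ht, Cardinal.ofENat_top] at hd
    exact (trdeg_lt_aleph0_of_finiteType (R := k) (S := F ⧸ P)).not_ge (hd ▸ le_self_add))).symm⟩
  rw [show (Q.map (Ideal.Quotient.mk P)).height = (a : ℕ∞) from ha, Cardinal.ofENat_nat] at hd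
  have htn : Cardinal.toNat (Algebra.trdeg k (F ⧸ P)) = a + Cardinal.toNat (Algebra.trdeg k (F ⧸ Q)) := by
    rw [← hd, Cardinal.toNat_add Cardinal.natCast_lt_aleph0 (trdeg_lt_aleph0_of_finiteType (R := k)),
      Cardinal.toNat_natCast]
  have hkh : Order.height (⟨Q', hQ'⟩ : PrimeSpectrum (F ⧸ P)) = a := by
    rw [← PrimeSpectrum.height_eq_orderHeight]; exact ha
  have ha1 : 1 ≤ a := by
    by_contra ha0
    have h0 : a = 0 := by omega
    rw [h0, Nat.cast_zero, Order.height_eq_zero] at hkh
    exact hne.ne (le_antisymm bot_le (hkh (b := ⟨⊥, Ideal.bot_prime⟩) bot_le))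
  refine ⟨by omega, fun hcov => ?_⟩
  suffices hle : Order.height (⟨Q', hQ'⟩ : PrimeSpectrum (F ⧸ P)) ≤ (1 : ℕ) by
    rw [hkh, Nat.cast_le] at hle
    omega
  refine Order.height_le_coe_iff.2 fun y hy => ?_
  have hy0 : y.asIdeal = ⊥ := by
    by_contra hy0
    refine hcov (y.asIdeal.comap (Ideal.Quotient.mk P)) (Ideal.comap_isPrime _ _) ?_ ?_
    · refine lt_of_le_of_ne (fun x hx => ?_) fun h1 => hy0 ?_
      · show Ideal.Quotient.mk P x ∈ y.asIdeal
        rw [Ideal.Quotient.eq_zero_iff_mem.2 hx]; exact zero_mem _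
      · refine (Ideal.comap_injective_of_surjective _ Ideal.Quotient.mk_surjective) ?_
        rw [← RingHom.ker_eq_comap_bot, Ideal.mk_ker]; exact h1.symm
    · rw [← hback]
      exact lt_of_le_of_ne (Ideal.comap_mono hy.le) fun h2 =>
        hy.ne (PrimeSpectrum.ext (Ideal.comap_injective_of_surjective _ Ideal.Quotient.mk_surjective h2))
  have : Order.height y = 0 := Order.height_eq_zero.2 fun b hb => show y.asIdeal ≤ b.asIdeal from hy0 ▸ bot_le
  rw [this]; exact_mod_cast Nat.one_pos

/-- Strict drop of the residual transcendence degree in a fibre, and drop by one for coverings. -/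
theorem tr_lt_of_under_eq [Algebra.FiniteType R S] {P Q : Ideal S} [P.IsPrime] [Q.IsPrime] (hPQ : P < Q)
    (h : P.under R = Q.under R) :
    tr R Q < tr R P ∧ ((∀ M : Ideal S, M.IsPrime → P < M → ¬ M < Q) → tr R P = tr R Q + 1) := by
  let p := P.under R
  haveI : P.LiesOver p := ⟨rfl⟩
  haveI : Q.LiesOver p := ⟨h⟩
  let o := PrimeSpectrum.primesOverOrderIsoFiber R S p
  let x : p.primesOver S := ⟨P, inferInstance, inferInstance⟩
  let y : p.primesOver S := ⟨Q, inferInstance, inferInstance⟩
  have hlt : (o x).asIdeal < (o y).asIdeal := o.strictMono (show x < y from hPQ)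
  haveI := (o x).2
  haveI := (o y).2
  obtain ⟨h1, h2⟩ := trdeg_step p.ResidueField (p.Fiber S) (o x).asIdeal (o y).asIdeal hlt
  rw [trdeg_fiber_quotient p (o y).asIdeal Q (exists_fiber_prime p Q).symm,
    trdeg_fiber_quotient p (o x).asIdeal P (exists_fiber_prime p P).symm,
    ← tr_eq_of_liesOver, ← tr_eq_of_liesOver] at h1 h2
  refine ⟨h1, fun hcov => h2 fun M hM hM1 hM2 => ?_⟩
  refine hcov (o.symm ⟨M, hM⟩).1 (o.symm ⟨M, hM⟩).2.1 ?_ ?_
  · show x < o.symm ⟨M, hM⟩
    rw [← o.lt_iff_lt, o.apply_symm_apply]; exact hM1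
  · show o.symm ⟨M, hM⟩ < y
    rw [← o.lt_iff_lt, o.apply_symm_apply]; exact hM2

section Prufer

variable [IsDomain R] (hR : ∀ (p : Ideal R) [p.IsPrime], ValuationRing (Localization.AtPrime p))
include hR

open MvPolynomial in
theorem trdeg_le_of_le {P Q : Ideal S} [P.IsPrime] [Q.IsPrime] (hPQ : P ≤ Q) :
    Algebra.trdeg (R ⧸ Q.under R) (S ⧸ Q) ≤ Algebra.trdeg (R ⧸ P.under R) (S ⧸ P) := by
  classical
  refine ciSup_le' fun ⟨t, ht⟩ => ?_
  choose x hx using fun i : t => Ideal.Quotient.mk_surjective i.1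
  let y : t → S ⧸ P := fun i => Ideal.Quotient.mk P (x i)
  have key : AlgebraicIndependent (R ⧸ P.under R) y := algebraicIndependent_iff.2 fun G hG => by
    obtain ⟨F, rfl⟩ := MvPolynomial.map_surjective _ Ideal.Quotient.mk_surjective G
    rw [← Ideal.Quotient.algebraMap_eq, aeval_map_algebraMap] at hG
    have hy : MvPolynomial.aeval x F ∈ P := by
      rw [← Ideal.Quotient.eq_zero_iff_mem, MvPolynomial.map_aeval]
      exact hG
    by_contra hne
    let T := F.support.filter fun n => F.coeff n ∉ P.under R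
    have hT : T.Nonempty := by
      rw [Finset.nonempty_iff_ne_empty]
      refine fun h0 => hne (MvPolynomial.ext _ _ fun n => ?_)
      rw [coeff_map, coeff_zero, Ideal.Quotient.eq_zero_iff_mem]
      by_contra hn
      exact Finset.notMem_empty n (h0 ▸ Finset.mem_filter.2
        ⟨mem_support_iff.2 fun h1 => hn (h1 ▸ zero_mem _), hn⟩)
    obtain ⟨m, hm, hall⟩ := Saturated.exists_max_dvd (Q.under R) (hR _) T (fun n => F.coeff n) hT
      fun n hn h1 => (Finset.mem_filter.1 hn).2 (h1 ▸ zero_mem _)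
    choose! r σ hσ hr using hall
    let G : MvPolynomial t R := ∑ n ∈ T, monomial n ((∏ l ∈ T.erase n, σ l) * r n)
    have hGc : ∀ n, G.coeff n = if n ∈ T then (∏ l ∈ T.erase n, σ l) * r n else 0 := fun n => by
      simp [G, coeff_sum, coeff_monomial]
    have hmem : C (F.coeff m) * G - C (∏ l ∈ T, σ l) * F ∈ (P.under R).map (C : R →+* MvPolynomial t R) := by
      rw [mem_map_C_iff]
      intro n
      rw [coeff_sub, coeff_C_mul, coeff_C_mul, hGc]
      split_ifs with hn
      · have : F.coeff m * ((∏ l ∈ T.erase n, σ l) * r n) - (∏ l ∈ T, σ l) * F.coeff n = 0 := by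
          rw [← Finset.mul_prod_erase T σ hn]
          linear_combination -(∏ l ∈ T.erase n, σ l) * hr n hn
        rw [this]; exact zero_mem _
      · by_cases hns : n ∈ F.support
        · have : F.coeff n ∈ P.under R := not_not.1 fun h1 => hn (Finset.mem_filter.2 ⟨hns, h1⟩)
          simpa using (P.under R).neg_mem (Ideal.mul_mem_left _ (∏ l ∈ T, σ l) this)
        · simp [notMem_support_iff.1 hns]
    have hmap : ((P.under R).map (C : R →+* MvPolynomial t R)) ≤ P.comap (MvPolynomial.aeval (R := R) x).toRingHom := by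
      rw [Ideal.map_le_iff_le_comap]
      intro a ha
      simpa [aeval_C] using ha
    have h1 := hmap hmem
    simp only [Ideal.mem_comap, AlgHom.toRingHom_eq_coe, RingHom.coe_coe, map_sub, map_mul, aeval_C] at h1
    have h2 : algebraMap R S (F.coeff m) * MvPolynomial.aeval x G ∈ P := by
      simpa using P.add_mem h1 (P.mul_mem_left (algebraMap R S (∏ l ∈ T, σ l)) hy)
    have h3 : MvPolynomial.aeval x G ∈ Q :=
      hPQ ((Ideal.IsPrime.mem_or_mem inferInstance h2).resolve_left (Finset.mem_filter.1 hm).2)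
    have h4 : MvPolynomial.map (Ideal.Quotient.mk (Q.under R)) G = 0 := by
      refine ht.eq_zero_of_aeval_eq_zero _ ?_
      rw [← Ideal.Quotient.algebraMap_eq, aeval_map_algebraMap]
      have h5 := Ideal.Quotient.eq_zero_iff_mem.2 h3
      rw [MvPolynomial.map_aeval] at h5
      simp only [hx] at h5
      exact h5
    have h6 : G.coeff m ∈ Q.under R := by
      rw [← Ideal.Quotient.eq_zero_iff_mem, ← coeff_map, h4, coeff_zero]
    have h7 : G.coeff m = ∏ l ∈ T, σ l := by
      have h8 : r m = σ m :=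
        mul_right_cancel₀ (fun h1 : F.coeff m = 0 => (Finset.mem_filter.1 hm).2 (by rw [h1]; exact zero_mem _)) (hr m hm).symm
      rw [hGc, if_pos hm, h8, mul_comm, Finset.mul_prod_erase _ _ hm]
    rw [h7] at h6
    obtain ⟨l, hl, hl'⟩ := Ideal.IsPrime.prod_mem_iff.1 h6
    exact hσ l hl hl'
  exact key.cardinalMk_le_trdeg

theorem tr_le_of_le [Algebra.FiniteType R S] {P Q : Ideal S} [P.IsPrime] [Q.IsPrime] (hPQ : P ≤ Q) :
    tr R Q ≤ tr R P :=
  Cardinal.toNat_le_toNat (trdeg_le_of_le hR hPQ) (trdeg_quotient_lt_aleph0 R S (P.under R) P)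

/-- Primes over intermediate primes exist. -/
theorem exists_prime_between {P Q : Ideal S} [P.IsPrime] [Q.IsPrime] (hPQ : P ≤ Q) (p' : Ideal R)
    [p'.IsPrime] (h1 : P.under R ≤ p') (h2 : p' ≤ Q.under R) :
    ∃ M : Ideal S, M.IsPrime ∧ P ≤ M ∧ M ≤ Q ∧ M.under R = p' := by
  let U : Submonoid S := Algebra.algebraMapSubmonoid S p'.primeCompl ⊔ Q.primeCompl
  have hdisj : Disjoint ((P ⊔ p'.map (algebraMap R S) : Ideal S) : Set S) (U : Set S) := by
    rw [Set.disjoint_left]
    intro z hz hzU
    obtain ⟨_, ⟨a, ha, rfl⟩, s, hs, rfl⟩ := Submonoid.mem_sup.1 hzU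
    obtain ⟨u, hu, v, hv, huv⟩ := Submodule.mem_sup.1 hz
    have hav : algebraMap R S a ∉ P := fun h => ha (h1 h)
    have key : ∀ v ∈ p'.map (algebraMap R S), ∃ T : R, T ∉ Q.under R ∧ ∃ w ∈ Q,
        algebraMap R S T * v = algebraMap R S a * w := by
      intro v hv
      induction hv using Submodule.span_induction with
      | mem x hx =>
        obtain ⟨r, hr, rfl⟩ := hx
        obtain ⟨c, t, ht, e | e⟩ := (valuationRing_atPrime_iff (Q.under R)).1 (hR _) r a
        · refine ⟨t, ht, algebraMap R S c, ?_, by rw [← map_mul, e, mul_comm, map_mul]⟩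
          have : a * c ∈ p' := mul_comm c a ▸ e ▸ p'.mul_mem_left t hr
          exact h2 ((Ideal.IsPrime.mem_or_mem inferInstance this).resolve_left ha)
        · exact absurd ((Ideal.IsPrime.mem_or_mem inferInstance (e ▸ p'.mul_mem_left c hr : t * a ∈ p')).resolve_right ha)
            fun h => ht (h2 h)
      | zero => exact ⟨1, Ideal.IsPrime.one_notMem inferInstance, 0, zero_mem _, by simp⟩
      | add x y _ _ hx hy =>
        obtain ⟨T, hT, w, hw, e⟩ := hx
        obtain ⟨T', hT', w', hw', e'⟩ := hy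
        refine ⟨T * T', fun h => (Ideal.IsPrime.mem_or_mem inferInstance h).elim hT hT',
          algebraMap R S T' * w + algebraMap R S T * w', Q.add_mem (Q.mul_mem_left _ hw) (Q.mul_mem_left _ hw'), ?_⟩
        rw [map_mul]
        linear_combination algebraMap R S T' * e + algebraMap R S T * e'
      | smul c x _ hx =>
        obtain ⟨T, hT, w, hw, e⟩ := hx
        exact ⟨T, hT, c * w, Q.mul_mem_left _ hw, by rw [smul_eq_mul]; linear_combination c * e⟩
    obtain ⟨T, hT, w, hw, e⟩ := key v hv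
    have : algebraMap R S a * (algebraMap R S T * s - w) ∈ P := by
      have : algebraMap R S a * (algebraMap R S T * s - w) = algebraMap R S T * u := by
        linear_combination -(algebraMap R S T) * huv + e
      rw [this]; exact P.mul_mem_left _ hu
    have h3 : algebraMap R S T * s ∈ Q := by
      simpa using Q.add_mem (hPQ ((Ideal.IsPrime.mem_or_mem inferInstance this).resolve_left hav)) hw
    exact (Ideal.IsPrime.mem_or_mem inferInstance h3).elim hT hs
  obtain ⟨M, hM, hle, hMU⟩ := Ideal.exists_le_prime_disjoint _ U hdisj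
  refine ⟨M, hM, le_sup_left.trans hle, fun x hx => ?_, le_antisymm (fun r hr => ?_) ?_⟩
  · by_contra hxQ
    exact Set.disjoint_left.1 hMU hx (Submonoid.mem_sup_right hxQ)
  · by_contra hr'
    exact Set.disjoint_left.1 hMU hr (Submonoid.mem_sup_left ⟨r, hr', rfl⟩)
  · exact Ideal.map_le_iff_le_comap.1 (le_sup_right.trans hle)

omit hR in
/-- A generic point of a special fibre has at least the generic residual transcendence degree. -/
theorem trdeg_le_of_minimal {A D : Type u} [CommRing A] [IsDomain A] [CommRing D] [IsDomain D] [Algebra A D]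
    [FaithfulSMul A D] [Algebra.FiniteType A D] (q : Ideal A) [q.IsPrime] (Q : Ideal D) [Q.IsPrime] [Q.LiesOver q]
    (hmin : ∀ M : Ideal D, M.IsPrime → M ≤ Q → M.under A = q → M = Q) :
    Algebra.trdeg A D ≤ (tr A Q : Cardinal) := by
  classical
  let o := PrimeSpectrum.primesOverOrderIsoFiber A D q
  haveI : IsNoetherianRing (q.Fiber D) := Algebra.FiniteType.isNoetherianRing q.ResidueField _
  let Sset : Finset (Ideal (q.Fiber D)) := (minimalPrimes.finite_of_isNoetherianRing (R := q.Fiber D)).toFinset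
  let mins : Finset (Ideal D) := Sset.image fun I => I.comap Algebra.TensorProduct.includeRight.toRingHom
  have hh : ∀ M ∈ mins.filter (fun M => ¬ M ≤ Q), ∃ h ∈ M, h ∉ Q := fun M hM =>
    SetLike.not_le_iff_exists.1 (Finset.mem_filter.1 hM).2
  choose! hf hfM hfQ using hh
  let h := ∏ M ∈ mins.filter (fun M => ¬ M ≤ Q), hf M
  have hhQ : h ∉ Q := fun hm => by
    obtain ⟨M, hM, hm'⟩ := Ideal.IsPrime.prod_mem_iff.1 hm
    exact hfQ M hM hm'
  have hover : ∀ M : Ideal D, M.IsPrime → M.under A = q → h ∉ M → Q ≤ M := by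
    intro M hM hMq hhM
    let MF := o ⟨M, hM, ⟨hMq.symm⟩⟩
    obtain ⟨I, hI, hIle⟩ := Ideal.exists_minimalPrimes_le (I := (⊥ : Ideal (q.Fiber D))) (J := MF.asIdeal) bot_le
    haveI := hI.1.1
    let M' := o.symm ⟨I, hI.1.1⟩
    have hM' : M'.1 ≤ M := by
      have : M' ≤ ⟨M, hM, ⟨hMq.symm⟩⟩ := by rw [← o.le_iff_le, o.apply_symm_apply]; exact hIle
      exact this
    have hmem : M'.1 ∈ mins := Finset.mem_image.2 ⟨I, (Set.Finite.mem_toFinset _).2 hI, rfl⟩
    by_cases hle : M'.1 ≤ Q
    · exact hmin M'.1 M'.2.1 hle M'.2.2.over.symm ▸ hM'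
    · exact absurd (hM' (M'.1.mem_of_dvd (Finset.dvd_prod_of_mem hf (Finset.mem_filter.2 ⟨hmem, hle⟩))
        (hfM _ (Finset.mem_filter.2 ⟨hmem, hle⟩)))) hhM
  let B := Localization.Away h
  haveI : Algebra.FiniteType A B := Algebra.FiniteType.trans (S := D) inferInstance
    (IsLocalization.finiteType_of_monoid_fg (Submonoid.powers h) B)
  have hdisj : Disjoint (Submonoid.powers h : Set D) (Q : Set D) :=
    (Ideal.disjoint_powers_iff_notMem_of_isPrime _).mpr hhQ
  let QB : Ideal B := Q.map (algebraMap D B)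
  haveI hQB : QB.IsPrime := IsLocalization.isPrime_of_isPrime_disjoint (Submonoid.powers h) _ _ ‹_› hdisj
  have hQBc : QB.comap (algebraMap D B) = Q :=
    IsLocalization.under_map_of_isPrime_disjoint (Submonoid.powers h) B ‹_› hdisj
  haveI : QB.LiesOver q := ⟨by
    rw [Ideal.under_def, IsScalarTower.algebraMap_eq A D B, ← Ideal.comap_comap, hQBc]
    exact Ideal.LiesOver.over (P := Q) (p := q)⟩
  have hh0 : h ≠ 0 := fun h0 => hhQ (h0 ▸ zero_mem Q)
  haveI : IsDomain B :=
    IsLocalization.isDomain_localization (powers_le_nonZeroDivisors_of_noZeroDivisors hh0)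
  have hdim : ringKrullDim (q.Fiber B) ≤ (tr A Q : ℕ) := by
    let oB := PrimeSpectrum.primesOverOrderIsoFiber A B q
    let contr : q.primesOver B → Ideal D := fun M => M.1.comap (algebraMap D B)
    have hcontr : ∀ M : q.primesOver B, Q ≤ contr M ∧ (contr M).IsPrime ∧ (contr M).under A = q := fun M => by
      haveI := M.2.1
      have hu : (contr M).under A = q := by
        rw [Ideal.under_def, Ideal.comap_comap, ← IsScalarTower.algebraMap_eq]
        exact M.2.2.over.symm
      exact ⟨hover _ (Ideal.comap_isPrime _ _) hu fun hm => M.2.1.ne_top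
        (Ideal.eq_top_of_isUnit_mem _ hm (IsLocalization.Away.algebraMap_isUnit h)), Ideal.comap_isPrime _ _, hu⟩
    have hbound : ∀ M : q.primesOver B, tr A (contr M) ≤ tr A Q := fun M => by
      obtain ⟨hle, hpr, hu⟩ := hcontr M
      haveI := hpr
      rcases hle.eq_or_lt with he | hlt
      · rw [← he]
      · exact (tr_lt_of_under_eq hlt ((Ideal.LiesOver.over (P := Q) (p := q)).symm.trans hu.symm)).1.le
    let φ : PrimeSpectrum (q.Fiber B) → Fin (tr A Q + 1) := fun x =>
      ⟨tr A Q - tr A (contr (oB.symm x)), by omega⟩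
    have hφ : StrictMono φ := fun x y hxy => by
      have hlt : oB.symm x < oB.symm y := oB.symm.strictMono hxy
      haveI := (oB.symm x).2.1
      haveI := (oB.symm y).2.1
      haveI := (hcontr (oB.symm x)).2.1
      haveI := (hcontr (oB.symm y)).2.1
      have hlt' : contr (oB.symm x) < contr (oB.symm y) := by
        refine lt_of_le_of_ne (Ideal.comap_mono hlt.le) fun he => hlt.ne (Subtype.ext ?_)
        exact (IsLocalization.orderEmbedding (Submonoid.powers h) B).injective he
      have h1 := (tr_lt_of_under_eq hlt' ((hcontr _).2.2.trans (hcontr _).2.2.symm)).1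
      have h2 := hbound (oB.symm x)
      show tr A Q - tr A (contr (oB.symm x)) < tr A Q - tr A (contr (oB.symm y))
      omega
    refine (Order.krullDim_le_of_strictMono φ hφ).trans ?_
    refine iSup_le fun l => ?_
    have := l.length_lt_card
    rw [Fintype.card_fin] at this
    exact_mod_cast Nat.lt_succ_iff.1 this
  obtain ⟨g, hg, hall⟩ := exists_notMem_forall_trdeg_le q QB hdim
  have hb := hall (⊥ : Ideal B) (fun hg0 => hg ((Ideal.mem_bot.1 hg0) ▸ zero_mem _))
  have hinj : Function.Injective (algebraMap A B) := by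
    rw [IsScalarTower.algebraMap_eq A D B]
    exact (IsLocalization.injective B (powers_le_nonZeroDivisors_of_noZeroDivisors hh0)).comp
      (FaithfulSMul.algebraMap_injective A D)
  have hbot : (⊥ : Ideal B).under A = ⊥ := by
    rw [Ideal.under_def, ← RingHom.ker_eq_comap_bot]
    exact (RingHom.injective_iff_ker_eq_bot _).1 hinj
  rw [trdeg_eq_of_ringEquiv ((Ideal.quotEquivOfEq hbot).trans (RingEquiv.quotientBot A)) (RingEquiv.quotientBot B)
    (RingHom.ext fun x => by obtain ⟨x, rfl⟩ := Ideal.Quotient.mk_surjective x; rfl)] at hb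
  have hDB : Algebra.trdeg A B = Algebra.trdeg A D := by
    haveI : Algebra.IsAlgebraic D B := IsLocalization.isAlgebraic B (Submonoid.powers h)
    haveI : FaithfulSMul D B := (faithfulSMul_iff_algebraMap_injective _ _).2
      (IsLocalization.injective B (powers_le_nonZeroDivisors_of_noZeroDivisors hh0))
    rw [← trdeg_add_eq A D (A := B), trdeg_eq_zero (R := D) (A := B), add_zero]
  rwa [hDB] at hb

omit [IsDomain R] hR in
/-- A prime minimal over `P` in its fibre has at least the residual transcendence degree of `P`. -/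
theorem tr_le_of_minimal [Algebra.FiniteType R S] {P Q : Ideal S} [P.IsPrime] [Q.IsPrime] (hPQ : P ≤ Q)
    (hmin : ∀ M : Ideal S, M.IsPrime → P ≤ M → M ≤ Q → M.under R = Q.under R → M = Q) :
    tr R P ≤ tr R Q := by
  let p₀ := P.under R
  let A := R ⧸ p₀
  let D := S ⧸ P
  haveI : FaithfulSMul A D := (faithfulSMul_iff_algebraMap_injective _ _).2 Ideal.algebraMap_quotient_injective
  haveI : Algebra.FiniteType R D := Algebra.FiniteType.of_surjective (Ideal.Quotient.mkₐ R P) Ideal.Quotient.mk_surjective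
  haveI : Algebra.FiniteType A D := .of_restrictScalars_finiteType R _ _
  let QD : Ideal D := Q.map (Ideal.Quotient.mk P)
  haveI : QD.IsPrime := Ideal.map_isPrime_of_surjective Ideal.Quotient.mk_surjective (by rw [Ideal.mk_ker]; exact hPQ)
  have hback : QD.comap (Ideal.Quotient.mk P) = Q := by
    rw [Ideal.comap_map_of_surjective _ Ideal.Quotient.mk_surjective, ← RingHom.ker_eq_comap_bot, Ideal.mk_ker]
    exact sup_eq_left.2 hPQ
  have hu : ∀ I : Ideal D, (I.under A).comap (Ideal.Quotient.mk p₀) = (I.comap (Ideal.Quotient.mk P)).under R :=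
    fun I => rfl
  have h1 := trdeg_le_of_minimal (QD.under A) QD fun M hM hMQ hMu => by
    haveI := hM
    refine Ideal.comap_injective_of_surjective (Ideal.Quotient.mk P) Ideal.Quotient.mk_surjective ?_
    rw [hback]
    refine hmin _ (Ideal.comap_isPrime _ _) (fun x hx => ?_) (hback ▸ Ideal.comap_mono hMQ) ?_
    · show Ideal.Quotient.mk P x ∈ M
      rw [Ideal.Quotient.eq_zero_iff_mem.2 hx]; exact zero_mem _
    · rw [← hu, hMu, hu, hback]
  have e : Algebra.trdeg (A ⧸ QD.under A) (D ⧸ QD) = Algebra.trdeg (R ⧸ Q.under R) (S ⧸ Q) := by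
    have hle : p₀ ≤ Q.under R := Ideal.comap_mono hPQ
    have hq : QD.under A = (Q.under R).map (Ideal.Quotient.mk p₀) := by
      refine Ideal.comap_injective_of_surjective _ Ideal.Quotient.mk_surjective ?_
      rw [hu, hback, Ideal.comap_map_of_surjective _ Ideal.Quotient.mk_surjective, ← RingHom.ker_eq_comap_bot,
        Ideal.mk_ker, sup_eq_left.2 hle]
    refine trdeg_eq_of_ringEquiv ((Ideal.quotEquivOfEq hq).trans (DoubleQuot.quotQuotEquivQuotOfLE hle))
      (DoubleQuot.quotQuotEquivQuotOfLE hPQ) (RingHom.ext fun x => ?_)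
    obtain ⟨x, rfl⟩ := Ideal.Quotient.mk_surjective x
    obtain ⟨x, rfl⟩ := Ideal.Quotient.mk_surjective x
    rfl
  have h2 : tr R P = Cardinal.toNat (Algebra.trdeg A D) := rfl
  have h3 : tr A QD = tr R Q := congrArg Cardinal.toNat e
  rw [h3] at h1
  rw [h2]
  simpa using Cardinal.toNat_le_toNat h1 Cardinal.natCast_lt_aleph0

omit [IsDomain R] hR in
theorem primeHeight_ne_top (hdim : ringKrullDim R < ⊤) (p : Ideal R) [p.IsPrime] : p.height ≠ ⊤ := fun h => by
  have := (Ideal.height_le_ringKrullDim_of_isPrime (I := p))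
  rw [h] at this
  exact absurd (lt_of_le_of_lt this hdim) (lt_irrefl _)

omit [IsDomain R] hR in
theorem finiteHeight_of (hdim : ringKrullDim R < ⊤) (p : Ideal R) [p.IsPrime] : p.FiniteHeight :=
  ⟨Or.inr (primeHeight_ne_top hdim p)⟩

theorem height_eq_succ_of_covBy (hdim : ringKrullDim R < ⊤) {p q : Ideal R} [p.IsPrime] [q.IsPrime] (hpq : p < q)
    (hcov : ∀ M : Ideal R, M.IsPrime → p < M → ¬ M < q) : q.height.toNat = p.height.toNat + 1 := by
  obtain ⟨a, ha⟩ := ENat.ne_top_iff_exists.1 (primeHeight_ne_top hdim p)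
  obtain ⟨b, hb⟩ := ENat.ne_top_iff_exists.1 (primeHeight_ne_top hdim q)
  have ha' : Order.height (⟨p, inferInstance⟩ : PrimeSpectrum R) = a := by
    rw [← PrimeSpectrum.height_eq_orderHeight]; exact ha.symm
  have hb' : Order.height (⟨q, inferInstance⟩ : PrimeSpectrum R) = b := by
    rw [← PrimeSpectrum.height_eq_orderHeight]; exact hb.symm
  have h1 : (a : ℕ∞) + 1 ≤ b := by
    rw [← ha', ← hb']; exact Order.height_add_one_le hpq
  have h2 : Order.height (⟨q, inferInstance⟩ : PrimeSpectrum R) ≤ (a + 1 : ℕ) := by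
    refine Order.height_le_coe_iff.2 fun y hy => ?_
    have hyp : y.asIdeal ≤ p := by
      rcases le_or_le_of_le q (hR q) y.asIdeal p (show y.asIdeal ≤ q from hy.le) hpq.le with h | h
      · exact h
      · rcases h.eq_or_lt with h | h
        · exact h.ge
        · exact absurd hy (hcov _ y.2 h)
    have : Order.height y ≤ a := ha' ▸ Order.height_mono (show y ≤ (⟨p, inferInstance⟩ : PrimeSpectrum R) from hyp)
    exact lt_of_le_of_lt this (by exact_mod_cast Nat.lt_succ_self a)
  rw [hb', Nat.cast_le] at h2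
  rw [← ha, ← hb, ENat.toNat_natCast, ENat.toNat_natCast]
  have h1' : a + 1 ≤ b := by exact_mod_cast h1
  omega

/-- The dimension function. -/
noncomputable def δ (R : Type u) {S : Type u} [CommRing R] [CommRing S] [Algebra R S] (P : Ideal S) : ℤ :=
  (tr R P : ℤ) - ((P.under R).height.toNat : ℤ)

theorem δ_lt [Algebra.FiniteType R S] (hdim : ringKrullDim R < ⊤) {P Q : Ideal S} [P.IsPrime] [Q.IsPrime]
    (hPQ : P < Q) : δ R Q < δ R P := by
  unfold δ
  rcases (show P.under R ≤ Q.under R from Ideal.comap_mono hPQ.le).eq_or_lt with h | h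
  · have h1 := (tr_lt_of_under_eq hPQ h).1
    rw [h]
    omega
  · have h1 := tr_le_of_le hR hPQ.le
    have h2 : (P.under R).height < (Q.under R).height :=
      haveI := finiteHeight_of hdim (Q.under R)
      Ideal.height_strict_mono_of_isPrime_of_isPrime h
    obtain ⟨a, ha⟩ := ENat.ne_top_iff_exists.1 (primeHeight_ne_top hdim (P.under R))
    obtain ⟨b, hb⟩ := ENat.ne_top_iff_exists.1 (primeHeight_ne_top hdim (Q.under R))
    have h3 : (P.under R).height.toNat < (Q.under R).height.toNat := by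
      rw [← ha, ← hb] at h2 ⊢
      simpa using h2
    omega

theorem δ_eq_succ [Algebra.FiniteType R S] (hdim : ringKrullDim R < ⊤) {P Q : Ideal S} [P.IsPrime] [Q.IsPrime]
    (hPQ : P < Q) (hcov : ∀ M : Ideal S, M.IsPrime → P < M → ¬ M < Q) : δ R P = δ R Q + 1 := by
  unfold δ
  rcases (show P.under R ≤ Q.under R from Ideal.comap_mono hPQ.le).eq_or_lt with h | h
  · rw [(tr_lt_of_under_eq hPQ h).2 hcov, h]
    push_cast
    ring
  · have h1 := tr_le_of_le hR hPQ.le
    have h2 := tr_le_of_minimal hPQ.le fun M hM hle hle' hu => by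
      by_contra hne
      refine hcov M hM (lt_of_le_of_ne hle fun he => h.ne ?_) (lt_of_le_of_ne hle' hne)
      rw [he]; exact hu
    have h3 := height_eq_succ_of_covBy hR hdim h fun p' hp' hlt hlt' => by
      haveI := hp'
      obtain ⟨M, hM, hle, hle', hu⟩ := exists_prime_between hR hPQ.le p' hlt.le hlt'.le
      exact hcov M hM (lt_of_le_of_ne hle fun he => hlt.ne (he ▸ hu)) (lt_of_le_of_ne hle' fun he => hlt'.ne (he ▸ hu).symm)
    omega

end Prufer

end Groth.Agent.Prufer29
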