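import Groth.Agent.Prufer29.Dimension
import Groth.Prelude.Def_Found

/-!
# Bounds for chains of primes in algebras of finite type over Prüfer domains
-/

set_option autoImplicit false

universe u

namespace Groth.Agent.Prufer29

open Groth.Agent.E4O

variable {R S : Type u} [CommRing R] [IsDomain R] [CommRing S] [Algebra R S] [Algebra.FiniteType R S]
  (hR : ∀ (p : Ideal R) [p.IsPrime], ValuationRing (Localization.AtPrime p)) (hdim : ringKrullDim R < ⊤)
include hR hdim

theorem covBy_iff {P Q : Ideal S} [P.IsPrime] [Q.IsPrime] (hPQ : P < Q) :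
    (⟨P, inferInstance⟩ : PrimeSpectrum S) ⋖ ⟨Q, inferInstance⟩ ↔ δ R P = δ R Q + 1 := by
  refine ⟨fun h => δ_eq_succ hR hdim hPQ fun M hM h1 h2 =>
    h.2 (c := ⟨M, hM⟩) h1 h2, fun h => ⟨hPQ, fun M h1 h2 => ?_⟩⟩
  have e1 := δ_lt hR hdim (show P < M.asIdeal from h1)
  have e2 := δ_lt hR hdim (show M.asIdeal < Q from h2)
  omega

theorem length_le (s : LTSeries (PrimeSpectrum S)) :
    (s.length : ℤ) ≤ δ R s.head.asIdeal - δ R s.last.asIdeal := by
  have : ∀ (i : ℕ) (hi : i < s.length + 1), (i : ℤ) ≤ δ R s.head.asIdeal - δ R (s ⟨i, hi⟩).asIdeal := by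
    intro i
    induction i with
    | zero => intro hi; simp [RelSeries.head]
    | succ i ih =>
      intro hi
      have h1 := ih (by omega)
      have h2 : δ R (s ⟨i + 1, hi⟩).asIdeal < δ R (s ⟨i, by omega⟩).asIdeal :=
        δ_lt hR hdim (s.step ⟨i, by omega⟩)
      push_cast
      omega
  exact this s.length (Nat.lt_succ_self _)

theorem length_eq (s : LTSeries (PrimeSpectrum S))
    (hs : ∀ i : Fin s.length, s (Fin.castSucc i) ⋖ s (Fin.succ i)) :
    (s.length : ℤ) = δ R s.head.asIdeal - δ R s.last.asIdeal := by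
  have : ∀ (i : ℕ) (hi : i < s.length + 1), (i : ℤ) = δ R s.head.asIdeal - δ R (s ⟨i, hi⟩).asIdeal := by
    intro i
    induction i with
    | zero => intro hi; simp [RelSeries.head]
    | succ i ih =>
      intro hi
      have h1 := ih (by omega)
      have h2 : δ R (s ⟨i, by omega⟩).asIdeal = δ R (s ⟨i + 1, hi⟩).asIdeal + 1 :=
        (covBy_iff hR hdim (s.step ⟨i, by omega⟩)).1 (hs ⟨i, by omega⟩)
      push_cast
      omega
  exact this s.length (Nat.lt_succ_self _)

theorem isCatenary : CAlg.IsCatenary S := by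
  refine ⟨fun p q _ => ⟨(δ R p.asIdeal - δ R q.asIdeal).toNat, fun s h1 h2 => ?_⟩, fun s t h1 h2 hs ht => ?_⟩
  · have h := length_le hR hdim s
    rw [h1, h2] at h
    omega
  · have e1 := length_eq hR hdim s hs
    have e2 := length_eq hR hdim t ht
    rw [h1, h2, ← e2] at e1
    exact_mod_cast e1

theorem ringKrullDim_lt_top : ringKrullDim S < ⊤ := by
  classical
  obtain ⟨G, hG⟩ := Algebra.FiniteType.out (R := R) (A := S)
  obtain ⟨D, hD⟩ : ∃ D : ℕ, ringKrullDim R ≤ D := by
    cases h : ringKrullDim R with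
    | bot => exact ⟨0, bot_le⟩
    | coe n =>
      cases n with
      | top => rw [h] at hdim; exact absurd hdim (lt_irrefl _)
      | coe n => exact ⟨n, le_rfl⟩
  have hub : ∀ P : PrimeSpectrum S, δ R P.asIdeal ≤ G.card ∧ -(D : ℤ) ≤ δ R P.asIdeal := fun P => by
    have h1 : tr R P.asIdeal ≤ G.card := toNat_le_of_le
      (trdeg_le_of_isAlgebraic_generators (fun i => Ideal.Quotient.mk P.asIdeal (G.equivFin.symm i).1)
        (Ideal.Quotient.mk P.asIdeal '' (G : Set S)) (by
          have := Algebra.adjoin_image R (Ideal.Quotient.mkₐ R P.asIdeal) (G : Set S)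
          rw [hG, Algebra.map_top, (AlgHom.range_eq_top _).2 Ideal.Quotient.mk_surjective] at this
          refine eq_top_iff.2 fun x _ => ?_
          have hx : x ∈ Algebra.adjoin R (Ideal.Quotient.mk P.asIdeal '' (G : Set S)) :=
            this.symm ▸ (Algebra.mem_top : x ∈ (⊤ : Subalgebra R (S ⧸ P.asIdeal)))
          induction hx using Algebra.adjoin_induction with
          | mem x hx => exact Algebra.subset_adjoin hx
          | algebraMap r =>
            rw [IsScalarTower.algebraMap_apply R (R ⧸ P.asIdeal.under R) (S ⧸ P.asIdeal)]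
            exact Subalgebra.algebraMap_mem _ _
          | add x y _ _ hx hy => exact add_mem (hx trivial) (hy trivial)
          | mul x y _ _ hx hy => exact mul_mem (hx trivial) (hy trivial))
        fun β hβ => by
          obtain ⟨g, hg, e⟩ := hβ
          exact isAlgebraic_algebraMap
            (⟨β, Algebra.subset_adjoin ⟨G.equivFin ⟨g, hg⟩, by simp [e]⟩⟩ :
              Algebra.adjoin (R ⧸ P.asIdeal.under R)
                (Set.range fun i : Fin G.card => Ideal.Quotient.mk P.asIdeal (G.equivFin.symm i).1)))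
    obtain ⟨a, ha⟩ := ENat.ne_top_iff_exists.1 (primeHeight_ne_top hdim (P.asIdeal.under R))
    have h2 := (Ideal.height_le_ringKrullDim_of_isPrime (I := P.asIdeal.under R)).trans hD
    rw [← ha] at h2
    have h3 : a ≤ D := by exact_mod_cast h2
    simp only [δ, ← ha, ENat.toNat_natCast]
    omega
  have hle : ringKrullDim S ≤ ((G.card + D : ℕ) : WithBot ℕ∞) := iSup_le fun s => by
    have := length_le hR hdim s
    have h1 := (hub s.head).1
    have h2 := (hub s.last).2
    have h3 : s.length ≤ G.card + D := by omega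
    exact WithBot.coe_le_coe.mpr (Nat.cast_le.mpr h3)
  exact lt_of_le_of_lt hle (WithBot.coe_lt_coe.mpr (ENat.natCast_lt_top _))

end Groth.Agent.Prufer29
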