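import Groth.Agent.Prufer29.Basic
import Mathlib.RingTheory.Polynomial.Basic
import Mathlib.RingTheory.Valuation.ValuationRing

/-! The Gauss point of a polynomial ring over a valuation ring. -/

set_option autoImplicit false

universe u

open MvPolynomial

namespace Groth.Agent.Prufer29

variable (V : Type u) [CommRing V] [IsDomain V] [ValuationRing V] (n : ℕ)

/-- The prime `m V[x]`. -/
noncomputable def gaussPrime : Ideal (MvPolynomial (Fin n) V) :=
  (IsLocalRing.maximalIdeal V).map C

instance isPrime_gaussPrime : (gaussPrime V n).IsPrime := by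
  have h : gaussPrime V n = RingHom.ker (MvPolynomial.map (σ := Fin n) (IsLocalRing.residue V)) := by
    rw [MvPolynomial.ker_map, IsLocalRing.ker_residue]; rfl
  rw [h]
  exact RingHom.ker_isPrime _

theorem exists_content (a : MvPolynomial (Fin n) V) (ha : a ≠ 0) :
    ∃ (v : V) (a₀ : MvPolynomial (Fin n) V), v ≠ 0 ∧ a₀ ∉ gaussPrime V n ∧ a = C v * a₀ := by
  classical
  have : ∀ S : Finset (Fin n →₀ ℕ), S.Nonempty → ∃ j ∈ S, ∀ i ∈ S, a.coeff j ∣ a.coeff i := by
    intro S hS
    induction hS using Finset.Nonempty.cons_induction with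
    | singleton b => exact ⟨b, Finset.mem_singleton_self b, fun i hi => by rw [Finset.mem_singleton.mp hi]⟩
    | cons b s hb hs ih =>
      obtain ⟨j, hj, hall⟩ := ih
      rcases ValuationRing.dvd_total (a.coeff j) (a.coeff b) with h | h
      · refine ⟨j, Finset.mem_cons_of_mem hj, fun i hi => ?_⟩
        rcases Finset.mem_cons.mp hi with rfl | hi
        exacts [h, hall i hi]
      · refine ⟨b, Finset.mem_cons_self b s, fun i hi => ?_⟩
        rcases Finset.mem_cons.mp hi with rfl | hi
        exacts [dvd_rfl, h.trans (hall i hi)]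
  obtain ⟨j, hj, hall⟩ := this _ (MvPolynomial.support_nonempty.mpr ha)
  choose! r hr using hall
  have hv : a.coeff j ≠ 0 := MvPolynomial.mem_support_iff.mp hj
  refine ⟨a.coeff j, ∑ i ∈ a.support, monomial i (r i), hv, fun h => ?_, ?_⟩
  · have h1 := mem_map_C_iff.mp h j
    rw [MvPolynomial.coeff_sum, Finset.sum_eq_single j (fun i _ hne => by rw [coeff_monomial, if_neg hne])
      (fun h => absurd hj h), coeff_monomial, if_pos rfl] at h1
    have h2 : r j = 1 := mul_left_cancel₀ hv (by rw [← hr j hj, mul_one])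
    rw [h2] at h1
    exact (Ideal.ne_top_iff_one _).mp Ideal.IsPrime.ne_top' h1
  · rw [Finset.mul_sum]
    conv_lhs => rw [a.as_sum]
    exact Finset.sum_congr rfl fun i hi => by rw [C_mul_monomial, ← hr i hi]

theorem valuationRing_gauss : ValuationRing (Localization.AtPrime (gaussPrime V n)) := by
  refine (valuationRing_atPrime_iff _).mpr fun a b => ?_
  by_cases ha : a = 0
  · exact ⟨0, 1, (Ideal.ne_top_iff_one _).mp Ideal.IsPrime.ne_top', .inl (by rw [ha, mul_zero, zero_mul])⟩
  by_cases hb : b = 0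
  · exact ⟨0, 1, (Ideal.ne_top_iff_one _).mp Ideal.IsPrime.ne_top', .inr (by rw [hb, mul_zero, zero_mul])⟩
  obtain ⟨u, a₀, -, ha₀, ea⟩ := exists_content V n a ha
  obtain ⟨v, b₀, -, hb₀, eb⟩ := exists_content V n b hb
  subst ea eb
  rcases ValuationRing.dvd_total v u with ⟨w, rfl⟩ | ⟨w, rfl⟩
  · exact ⟨C w * a₀, b₀, hb₀, .inl (by rw [map_mul]; ring)⟩
  · exact ⟨C w * b₀, a₀, ha₀, .inr (by rw [map_mul]; ring)⟩

end Groth.Agent.Prufer29
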