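import Mathlib.RingTheory.Smooth.Field
import Mathlib.RingTheory.Smooth.Locus
import Mathlib.RingTheory.EssentialFiniteness
import Mathlib.RingTheory.FiniteType
import Mathlib.FieldTheory.Perfect

/-! Smooth models of finitely generated fields. -/

set_option autoImplicit false

universe u v

namespace Groth.Agent.Prufer29

variable {k : Type v} {K : Type u} [CommRing k] [Field K] [Algebra k K]

theorem isFractionRing_adjoin (s : Finset K) (hs : Subfield.closure (↑s : Set K) = ⊤) :
    IsFractionRing (Algebra.adjoin k (↑s : Set K)) K := by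
  refine IsFractionRing.of_field _ _ fun z => ?_
  have hz : z ∈ Subfield.closure (↑s : Set K) := hs ▸ Subfield.mem_top z
  obtain ⟨y, hy, w, hw, rfl⟩ := Subfield.mem_closure_iff.mp hz
  have hle : Subring.closure (↑s : Set K) ≤ (Algebra.adjoin k (↑s : Set K)).toSubring :=
    Subring.closure_le.mpr Algebra.subset_adjoin
  exact ⟨⟨y, hle hy⟩, ⟨w, hle hw⟩, rfl⟩

/-- A formally smooth finitely generated field has a smooth model. -/
theorem exists_smooth_model [IsNoetherianRing k] [Algebra.FormallySmooth k K] (s : Finset K)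
    (hs : Subfield.closure (↑s : Set K) = ⊤) :
    ∃ A : Subalgebra k K, Algebra.Smooth k A ∧ IsFractionRing A K := by
  classical
  let A := Algebra.adjoin k (↑s : Set K)
  haveI : IsFractionRing A K := isFractionRing_adjoin s hs
  haveI : Algebra.FiniteType k A := Algebra.FiniteType.adjoin_of_finite s.finite_toSet
  haveI : Algebra.FinitePresentation k A := Algebra.FinitePresentation.of_finiteType.mp inferInstance
  have hbot : (⊥ : Ideal A).primeCompl = nonZeroDivisors A := by
    ext x
    rw [Ideal.primeCompl, mem_nonZeroDivisors_iff_ne_zero]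
    exact Ideal.mem_bot.not
  haveI hloc : IsLocalization.AtPrime K (⊥ : Ideal A) := by
    show IsLocalization (⊥ : Ideal A).primeCompl K
    rw [hbot]; infer_instance
  have hsm : Algebra.IsSmoothAt k (⊥ : Ideal A) :=
    Algebra.FormallySmooth.of_equiv ((IsLocalization.algEquiv (⊥ : Ideal A).primeCompl K
      (Localization.AtPrime (⊥ : Ideal A))).restrictScalars k)
  obtain ⟨f, hf, hsmf⟩ := Algebra.IsSmoothAt.exists_notMem_smooth k (⊥ : Ideal A)
  have hf0 : (f : K) ≠ 0 := fun h => hf (Subtype.ext h)
  let φ : Localization.Away f →ₐ[A] K :=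
    IsLocalization.liftAlgHom (M := Submonoid.powers f) (f := Algebra.ofId A K) (by
      rintro ⟨_, n, rfl⟩
      show IsUnit (algebraMap A K (f ^ n))
      rw [map_pow]
      exact (isUnit_iff_ne_zero.mpr hf0).pow n)
  have hφ : Function.Injective φ := by
    rw [injective_iff_map_eq_zero]
    intro x hx
    obtain ⟨a, ⟨m, hm⟩, rfl⟩ := IsLocalization.exists_mk'_eq (Submonoid.powers f) x
    have h : φ (algebraMap A _ a) = 0 := by
      rw [← IsLocalization.mk'_spec (Localization.Away f) a ⟨m, hm⟩, map_mul, hx, zero_mul]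
    rw [AlgHom.commutes] at h
    rw [IsFractionRing.to_map_eq_zero_iff.mp h, IsLocalization.mk'_zero]
  let ψ : Localization.Away f →ₐ[k] K := φ.restrictScalars k
  refine ⟨ψ.range, Algebra.Smooth.of_equiv (AlgEquiv.ofInjective ψ hφ), IsFractionRing.of_field _ _ fun z => ?_⟩
  obtain ⟨a, b, -, rfl⟩ := IsFractionRing.div_surjective (A := A) z
  exact ⟨⟨algebraMap A K a, ⟨algebraMap A _ a, φ.commutes a⟩⟩,
    ⟨algebraMap A K b, ⟨algebraMap A _ b, φ.commutes b⟩⟩, rfl⟩

end Groth.Agent.Prufer29
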