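import Mathlib.RingTheory.Valuation.ValuationSubring
import Mathlib.RingTheory.Valuation.LocalSubring
import Mathlib.RingTheory.Smooth.IntegralClosure
import Mathlib.FieldTheory.IsAlgClosed.AlgebraicClosure
import Mathlib.FieldTheory.Minpoly.IsIntegrallyClosed
import Mathlib.RingTheory.Valuation.Integral
import Mathlib.Algebra.GCDMonoid.IntegrallyClosed

/-! Valuations dominating a valuation ring in an extension generated by a root with unit derivative. -/

set_option autoImplicit false

universe u

open Polynomial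

namespace Groth.Agent.Prufer29

variable {R K L : Type u} [CommRing R] [Field K] [Algebra R K] [Field L] [Algebra K L]
  [Algebra R L] [IsScalarTower R K L]

/-- `W` dominates `R`. -/
structure Dom (R : Type u) [CommRing R] [Algebra R L] (W : ValuationSubring L) : Prop where
  le : ∀ r : R, W.valuation (algebraMap R L r) ≤ 1
  lt : ∀ r : R, ¬ IsUnit r → W.valuation (algebraMap R L r) < 1

omit [Field K] [Algebra R K] [Algebra K L] [IsScalarTower R K L] in
theorem Dom.eq_one {W : ValuationSubring L} (hW : Dom R W) {r : R} (hr : IsUnit r) :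
    W.valuation (algebraMap R L r) = 1 := by
  obtain ⟨r, rfl⟩ := hr
  refine le_antisymm (hW.le _) ?_
  calc (1 : W.ValueGroup) = W.valuation (algebraMap R L r) * W.valuation (algebraMap R L (r⁻¹ : Rˣ)) := by
        rw [← map_mul, ← map_mul, ← Units.val_mul, mul_inv_cancel, Units.val_one, map_one, map_one]
    _ ≤ W.valuation (algebraMap R L r) * 1 := mul_le_mul_right (hW.le _) _
    _ = _ := mul_one _

omit [Field K] [Algebra R K] [Algebra K L] [IsScalarTower R K L] in
/-- An element in all dominating valuation rings is integral. -/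
theorem isIntegral_of_forall [IsLocalRing R] (x : L)
    (hx : ∀ W : ValuationSubring L, Dom R W → W.valuation x ≤ 1) : IsIntegral R x := by
  by_cases hx0 : x = 0
  · rw [hx0]; exact isIntegral_zero
  letI := invertibleOfNonzero hx0
  let B := Algebra.adjoin R ({x⁻¹} : Set L)
  let xinv : B := ⟨x⁻¹, Algebra.subset_adjoin rfl⟩
  by_contra hint
  have hne : (IsLocalRing.maximalIdeal R).map (algebraMap R B) + Ideal.span {xinv} ≠ ⊤ := fun eq => hint <| by
    obtain ⟨p, hp, hpx⟩ := Algebra.exists_aeval_invOf_eq_zero_of_idealMap_adjoin_sup_span_eq_top x⁻¹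
      (IsLocalRing.maximalIdeal R) (IsLocalRing.maximalIdeal.isMaximal R).ne_top eq
    have H : IsUnit p.leadingCoeff := of_not_not fun h => by
      have := sub_mem ((IsLocalRing.mem_maximalIdeal _).mpr h) hp
      rw [sub_sub_cancel] at this
      exact (IsLocalRing.mem_maximalIdeal _).mp this isUnit_one
    exact ⟨Polynomial.C H.unit⁻¹.1 * p, Polynomial.monic_C_mul_of_mul_leadingCoeff_eq_one (IsUnit.val_inv_mul H), by
      rw [eval₂_mul, ← aeval_def, ← aeval_def, show aeval x p = 0 by simpa using hpx, mul_zero]⟩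
  obtain ⟨V, hV, hVI⟩ := Ideal.image_subset_nonunits_valuationSubring (A := B.toSubring) _ hne
  have hdom : Dom R V := by
    refine ⟨fun r => (V.valuation_le_one_iff _).mpr (hV (B.algebraMap_mem r)), fun r hr => ?_⟩
    have hm : algebraMap R B r ∈ (IsLocalRing.maximalIdeal R).map (algebraMap R B) + Ideal.span {xinv} :=
      Submodule.mem_sup_left (Ideal.mem_map_of_mem _ ((IsLocalRing.mem_maximalIdeal _).mpr hr))
    exact hVI ⟨_, hm, rfl⟩
  have h1 : V.valuation x⁻¹ < 1 :=
    hVI ⟨_, Submodule.mem_sup_right (Ideal.subset_span (rfl : xinv ∈ ({xinv} : Set B))), rfl⟩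
  rw [map_inv₀, inv_lt_one₀ (zero_lt_iff.mpr ((Valuation.ne_zero_iff _).mpr hx0))] at h1
  exact not_le.mpr h1 (hx V hdom)

variable [IsDomain R] [ValuationRing R] [IsFractionRing R K]

theorem exists_of_valuation_le_one {W : ValuationSubring L} (hW : Dom R W) (c : K)
    (hc : W.valuation (algebraMap K L c) ≤ 1) : ∃ r : R, algebraMap R K r = c := by
  rcases ValuationRing.isInteger_or_isInteger R c with ⟨r, hr⟩ | ⟨r, hr⟩
  · exact ⟨r, hr⟩
  · by_cases hu : IsUnit r
    · obtain ⟨r, rfl⟩ := hu
      refine ⟨(r⁻¹ : Rˣ), ?_⟩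
      rw [← inv_inv c, ← hr]
      exact eq_inv_of_mul_eq_one_left (by rw [← map_mul, ← Units.val_mul, inv_mul_cancel, Units.val_one, map_one])
    · by_cases hc0 : c = 0
      · exact ⟨0, by rw [hc0, map_zero]⟩
      · have h1 := hW.lt r hu
        rw [IsScalarTower.algebraMap_apply R K L, hr, map_inv₀, map_inv₀,
          inv_lt_one₀ (zero_lt_iff.mpr ((Valuation.ne_zero_iff _).mpr (by simpa using hc0)))] at h1
        exact absurd hc (not_le.mpr h1)

omit [Field K] [Algebra R K] [Algebra K L] [IsScalarTower R K L] [IsDomain R] [ValuationRing R]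
  [IsFractionRing R K] in
theorem valuation_aeval_le {W : ValuationSubring L} (hW : Dom R W) {z : L} (hz : W.valuation z ≤ 1)
    (h : R[X]) : W.valuation (aeval z h) ≤ 1 := by
  rw [aeval_eq_sum_range]
  refine W.valuation.map_sum_le fun i _ => ?_
  rw [Algebra.smul_def, map_mul, map_pow]
  exact mul_le_one' (hW.le _) (pow_le_one' hz _)

omit [Field K] [Algebra R K] [Algebra K L] [IsScalarTower R K L] [IsDomain R] [ValuationRing R]
  [IsFractionRing R K] in
theorem valuation_aeval_monic {W : ValuationSubring L} (hW : Dom R W) {z : L} (hz : 1 < W.valuation z)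
    {f : R[X]} (hf : f.Monic) : W.valuation (aeval z f) = W.valuation z ^ f.natDegree := by
  have hz0 : (W.valuation z) ≠ 0 := (zero_lt_one.trans hz).ne'
  rw [aeval_eq_sum_range, Finset.sum_range_succ, hf.coeff_natDegree, one_smul, add_comm]
  rw [Valuation.map_add_eq_of_lt_left]
  · rw [map_pow]
  · rw [map_pow]
    refine W.valuation.map_sum_lt (pow_ne_zero _ hz0) fun i hi => ?_
    rw [Algebra.smul_def, map_mul, map_pow]
    calc W.valuation (algebraMap R L (f.coeff i)) * W.valuation z ^ i
        ≤ 1 * W.valuation z ^ i := mul_le_mul_left (hW.le _) _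
      _ = W.valuation z ^ i := one_mul _
      _ < W.valuation z ^ f.natDegree := pow_lt_pow_right₀ hz (Finset.mem_range.mp hi)

omit [IsDomain R] [ValuationRing R] in
theorem valuation_ne_zero_of_injective {W : ValuationSubring L} {c : K} (hc : c ≠ 0) :
    W.valuation (algebraMap K L c) ≠ 0 :=
  (Valuation.ne_zero_iff _).mpr (by simpa using hc)

/-- A common denominator for `z` at all dominating valuation rings, a unit where `z` is integral. -/
theorem exists_denominator {z : L} (hz : IsAlgebraic K z) :
    ∃ a : L, a ∈ Algebra.adjoin K {z} ∧ ∀ W : ValuationSubring L, Dom R W →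
      W.valuation a ≤ 1 ∧ W.valuation (z * a) ≤ 1 ∧ (W.valuation z ≤ 1 → W.valuation a = 1) := by
  classical
  obtain ⟨q, hq0, hqz⟩ := hz
  -- a multiple of `q` with coefficients in `R` and one coefficient equal to one
  obtain ⟨q₀, j₀, hj₀, hq₀⟩ : ∃ (q₀ : R[X]) (j : ℕ), q₀.coeff j = 1 ∧ aeval z q₀ = 0 := by
    obtain ⟨b, hb⟩ := IsLocalization.integerNormalization_map_to_map (nonZeroDivisors R) q
    set p := IsLocalization.integerNormalization (nonZeroDivisors R) q
    have hp0 : p ≠ 0 := by
      intro h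
      rw [h, Polynomial.map_zero, eq_comm, smul_eq_zero] at hb
      exact hb.elim (nonZeroDivisors.ne_zero b.2) hq0
    have hpz : aeval z p = 0 := by
      rw [← aeval_map_algebraMap K z p, hb, ← algebraMap_smul K (b : R) q, map_smul, hqz, smul_zero]
    obtain ⟨j, hj, hjmax⟩ : ∃ j ∈ p.support, ∀ i ∈ p.support, p.coeff j ∣ p.coeff i := by
      have : ∀ S : Finset ℕ, S.Nonempty → ∃ j ∈ S, ∀ i ∈ S, p.coeff j ∣ p.coeff i := by
        intro S hS
        induction hS using Finset.Nonempty.cons_induction with
        | singleton a => exact ⟨a, Finset.mem_singleton_self a, fun i hi => by rw [Finset.mem_singleton.mp hi]⟩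
        | cons a s ha hs ih =>
          obtain ⟨j, hj, hall⟩ := ih
          rcases ValuationRing.dvd_total (p.coeff j) (p.coeff a) with h | h
          · refine ⟨j, Finset.mem_cons_of_mem hj, fun i hi => ?_⟩
            rcases Finset.mem_cons.mp hi with rfl | hi
            exacts [h, hall i hi]
          · refine ⟨a, Finset.mem_cons_self a s, fun i hi => ?_⟩
            rcases Finset.mem_cons.mp hi with rfl | hi
            exacts [dvd_rfl, h.trans (hall i hi)]
      exact this _ (Polynomial.support_nonempty.mpr hp0)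
    have hall : ∀ i, p.coeff j ∣ p.coeff i := fun i => by
      by_cases hi : i ∈ p.support
      · exact hjmax i hi
      · rw [Polynomial.notMem_support_iff.mp hi]; exact dvd_zero _
    choose r hr using hall
    have hc : p.coeff j ≠ 0 := Polynomial.mem_support_iff.mp hj
    refine ⟨∑ i ∈ p.support, Polynomial.monomial i (r i), j, ?_, ?_⟩
    · rw [Polynomial.finsetSum_coeff, Finset.sum_eq_single j (fun i _ h => by rw [coeff_monomial, if_neg h])
        (fun h => absurd hj h), coeff_monomial, if_pos rfl]
      exact mul_left_cancel₀ hc (by rw [mul_one, ← hr])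
    · have hp : p = Polynomial.C (p.coeff j) * ∑ i ∈ p.support, Polynomial.monomial i (r i) := by
        conv_lhs => rw [p.as_sum_support]
        rw [Finset.mul_sum]
        exact Finset.sum_congr rfl fun i _ => by rw [C_mul_monomial, ← hr i]
      rw [hp, map_mul, aeval_C, mul_eq_zero] at hpz
      refine hpz.resolve_left ?_
      rw [IsScalarTower.algebraMap_apply R K L]
      exact fun h => hc (IsFractionRing.to_map_eq_zero_iff.mp ((map_eq_zero _).mp h))
  let U := q₀.support.filter fun i => IsUnit (q₀.coeff i)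
  have hU : U.Nonempty := ⟨j₀, Finset.mem_filter.mpr ⟨mem_support_iff.mpr (by rw [hj₀]; exact one_ne_zero),
    by rw [hj₀]; exact isUnit_one⟩⟩
  let j := U.max' hU
  obtain ⟨hju₀, hju⟩ := Finset.mem_filter.mp (Finset.max'_mem U hU)
  let low : R[X] := ∑ i ∈ Finset.range (j + 1), Polynomial.monomial i (q₀.coeff i * hju.unit⁻¹.1)
  have hlowdeg : low.natDegree ≤ j := natDegree_sum_le_of_forall_le _ _ fun i hi =>
    (natDegree_monomial_le _).trans (Nat.lt_succ_iff.mp (Finset.mem_range.mp hi))
  have hlowj : low.coeff j = 1 := by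
    rw [Polynomial.finsetSum_coeff, Finset.sum_eq_single j (fun i _ h => by rw [coeff_monomial, if_neg h])
      (fun h => absurd (Finset.self_mem_range_succ j) h), coeff_monomial, if_pos rfl]
    exact hju.mul_val_inv
  let f : R[X] := 1 + X ^ 2 * low
  have hlow0 : low ≠ 0 := fun h => by rw [h, coeff_zero] at hlowj; exact zero_ne_one hlowj
  have hlowd : low.natDegree = j := le_antisymm hlowdeg (le_natDegree_of_ne_zero (by rw [hlowj]; exact one_ne_zero))
  have hlowm : low.Monic := by rw [Monic, leadingCoeff, hlowd, hlowj]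
  have hXm : (X ^ 2 * low).Monic := (monic_X_pow 2).mul hlowm
  have hXd : (X ^ 2 * low).natDegree = j + 2 := by
    rw [(monic_X_pow 2).natDegree_mul hlowm, natDegree_X_pow, hlowd, add_comm]
  have hone : (1 : R[X]).degree < (X ^ 2 * low).degree := by
    rw [degree_one, degree_eq_natDegree hXm.ne_zero, hXd]; exact_mod_cast Nat.succ_pos _
  have hfm : f.Monic := hXm.add_of_right hone
  have hfd : f.natDegree = j + 2 := by
    rw [← hXd]; exact natDegree_eq_of_degree_eq (degree_add_eq_right_of_degree_lt hone)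
  have hfun : ∀ W : ValuationSubring L, Dom R W → W.valuation z ≤ 1 → W.valuation (aeval z f) = 1 := by
    intro W hW hzW
    have hsmall : W.valuation (aeval z low) < 1 := by
      have hsum : aeval z q₀ = aeval z (∑ i ∈ Finset.range (j + 1), Polynomial.monomial i (q₀.coeff i)) +
          aeval z (∑ i ∈ q₀.support.filter (fun i => j < i), Polynomial.monomial i (q₀.coeff i)) := by
        rw [← map_add]
        congr 1
        ext n
        rw [coeff_add, Polynomial.finsetSum_coeff, Polynomial.finsetSum_coeff]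
        simp only [coeff_monomial, Finset.sum_ite_eq', Finset.mem_range, Finset.mem_filter, mem_support_iff]
        rcases lt_or_ge j n with h | h
        · rw [if_neg (by omega), zero_add]
          by_cases h0 : q₀.coeff n = 0
          · simp [h0]
          · rw [if_pos ⟨h0, h⟩]
        · rw [if_pos (by omega), if_neg (fun hh => absurd hh.2 (by omega)), add_zero]
      rw [hq₀] at hsum
      have htail : W.valuation (aeval z (∑ i ∈ q₀.support.filter (fun i => j < i),
          Polynomial.monomial i (q₀.coeff i))) < 1 := by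
        rw [map_sum]
        refine W.valuation.map_sum_lt one_ne_zero fun i hi => ?_
        obtain ⟨hi, hji⟩ := Finset.mem_filter.mp hi
        rw [aeval_monomial, map_mul, map_pow]
        refine lt_of_le_of_lt (mul_le_of_le_one_right zero_le' (pow_le_one' hzW _)) (hW.lt _ fun h => ?_)
        exact absurd (Finset.le_max' U i (Finset.mem_filter.mpr ⟨hi, h⟩)) (not_le.mpr hji)
      have hlow : aeval z low = aeval z (∑ i ∈ Finset.range (j + 1), Polynomial.monomial i (q₀.coeff i)) *
          algebraMap R L hju.unit⁻¹.1 := by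
        rw [show algebraMap R L hju.unit⁻¹.1 = aeval z (Polynomial.C hju.unit⁻¹.1) from (aeval_C _ _).symm,
          ← map_mul, Finset.sum_mul]
        congr 1
        exact Finset.sum_congr rfl fun i _ => by rw [monomial_mul_C]
      rw [hlow, map_mul, hW.eq_one (Units.isUnit _), mul_one, eq_neg_of_add_eq_zero_left hsum.symm,
        Valuation.map_neg]
      exact htail
    rw [map_add (aeval z), map_mul, map_pow, aeval_one, aeval_X, Valuation.map_one_add_of_lt]
    rw [map_mul, map_pow]
    exact lt_of_le_of_lt (mul_le_of_le_one_left zero_le' (pow_le_one' hzW _)) hsmall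
  refine ⟨(aeval z f)⁻¹, ?_, fun W hW => ?_⟩
  · have hmem : aeval z f ∈ Algebra.adjoin K {z} := by
      rw [← aeval_map_algebraMap K z f]
      exact Polynomial.aeval_mem_adjoin_singleton _ _
    exact Subalgebra.inv_mem_of_algebraic (Algebra.adjoin K {z}) (x := ⟨_, hmem⟩)
      (IsIntegral.of_mem_of_fg _ (IsIntegral.fg_adjoin_singleton (IsAlgebraic.isIntegral ⟨q, hq0, hqz⟩)) _ hmem).isAlgebraic
  · rcases le_or_gt (W.valuation z) 1 with h | h
    · have h1 := hfun W hW h
      rw [map_mul, map_inv₀, h1, inv_one, mul_one]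
      exact ⟨le_rfl, h, fun _ => rfl⟩
    · have h1 := valuation_aeval_monic hW h hfm
      rw [hfd] at h1
      have hpos : (0 : W.ValueGroup) < W.valuation z := zero_lt_one.trans h
      rw [map_mul, map_inv₀, h1]
      refine ⟨inv_le_one_of_one_le₀ (one_le_pow₀ h.le), ?_, fun h2 => absurd h2 (not_le.mpr h)⟩
      rw [pow_succ', mul_inv, ← mul_assoc, mul_inv_cancel₀ hpos.ne', one_mul]
      exact inv_le_one_of_one_le₀ (one_le_pow₀ h.le)

omit [IsDomain R] [ValuationRing R] [Algebra R K] [Algebra R L] [IsScalarTower R K L]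
  [IsFractionRing R K] [CommRing R] in
/-- Some power of an algebraic element has the value of an element of the base field. -/
theorem exists_pow_eq (W : ValuationSubring L) {x : L} (hx : x ≠ 0) (halg : IsAlgebraic K x) :
    ∃ e : ℕ, 0 < e ∧ ∃ b : K, b ≠ 0 ∧ W.valuation (x ^ e) = W.valuation (algebraMap K L b) := by
  classical
  obtain ⟨p, hp, hpx⟩ := halg
  let t : ℕ → L := fun i => algebraMap K L (p.coeff i) * x ^ i
  have hsum : ∑ i ∈ p.support, t i = 0 := by
    rw [← hpx]
    conv_rhs => rw [p.as_sum_support, map_sum]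
    exact Finset.sum_congr rfl fun i _ => by rw [aeval_monomial]
  obtain ⟨i, hi, hmax⟩ := p.support.exists_max_image (fun i => W.valuation (t i)) (support_nonempty.mpr hp)
  have hne : ∀ k ∈ p.support, W.valuation (t k) ≠ 0 := fun k hk => by
    rw [map_mul]
    exact mul_ne_zero ((Valuation.ne_zero_iff _).mpr (by simpa using mem_support_iff.mp hk))
      ((Valuation.ne_zero_iff _).mpr (pow_ne_zero _ hx))
  obtain ⟨j, hj, hji, hjeq⟩ : ∃ j ∈ p.support, j ≠ i ∧ W.valuation (t j) = W.valuation (t i) := by
    by_contra! h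
    have := W.valuation.map_sum_eq_of_lt hi fun k hk => by
      obtain ⟨hk, hki⟩ := Finset.mem_sdiff.mp hk
      exact lt_of_le_of_ne (hmax k hk) (h k hk (by simpa using hki))
    rw [hsum, map_zero] at this
    exact hne i hi this.symm
  have key : ∀ i j, i < j → i ∈ p.support → j ∈ p.support → W.valuation (t i) = W.valuation (t j) →
      ∃ e : ℕ, 0 < e ∧ ∃ b : K, b ≠ 0 ∧ W.valuation (x ^ e) = W.valuation (algebraMap K L b) := by
    intro i j hij hi hj he
    have hci := mem_support_iff.mp hi
    have hcj := mem_support_iff.mp hj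
    refine ⟨j - i, by omega, p.coeff i / p.coeff j, div_ne_zero hci hcj, ?_⟩
    simp only [t, map_mul, map_pow] at he
    rw [map_pow, map_div₀, map_div₀, eq_div_iff ((Valuation.ne_zero_iff _).mpr (by simpa using hcj))]
    have hxv : W.valuation x ≠ 0 := (Valuation.ne_zero_iff _).mpr hx
    refine mul_right_cancel₀ (pow_ne_zero i hxv) ?_
    rw [he, mul_comm (W.valuation x ^ (j - i)), mul_assoc, ← pow_add, Nat.sub_add_cancel hij.le]
  rcases lt_or_gt_of_ne hji with h | h
  exacts [key j i h hj hi hjeq, key i j h hi hj hjeq.symm]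

/-- The descent step: the value of an integral element is attained on the base. -/
theorem descend {W : ValuationSubring L} (hW : Dom R W) {θ : L} (hθ : IsIntegral R θ)
    (hθ' : W.valuation (aeval θ (derivative (minpoly K θ))) = 1)
    {y : L} (hy : y ∈ Algebra.adjoin K {θ}) (hyint : IsIntegral R y) (hy0 : y ≠ 0)
    {e : ℕ} (he : 0 < e) {b : K} (hb : b ≠ 0)
    (hint : IsIntegral R (y ^ e * (algebraMap K L b)⁻¹))
    (hval : W.valuation (y ^ e) = W.valuation (algebraMap K L b)) :
    ∃ (c : R) (h : R[X]), W.valuation (aeval θ h) = 1 ∧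
      aeval θ (derivative (minpoly K θ)) * y = algebraMap R L c * aeval θ h := by
  classical
  haveI : IsIntegrallyClosed R := by
    letI := IsBezout.toGCDDomain R
    infer_instance
  set G := minpoly K θ with hG
  have hGint : IsIntegral K θ := hθ.tower_top
  have hGmap : G = (minpoly R θ).map (algebraMap R K) := minpoly.isIntegrallyClosed_eq_field_fractions K L hθ
  have hGm : G.Monic := minpoly.monic hGint
  rw [Algebra.adjoin_singleton_eq_range_aeval] at hy
  obtain ⟨Y, hY⟩ := hy
  replace hY : aeval θ Y = y := hY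
  set h₀ := (derivative G * Y) %ₘ G with hh₀
  have hyh : aeval θ (derivative G) * y = aeval θ h₀ := by
    rw [hh₀, Polynomial.aeval_modByMonic_eq_self_of_root (minpoly.aeval K θ), map_mul, hY]
  -- adjoin an `e`-th root of `b`
  let S := AlgebraicClosure K
  obtain ⟨β, hβ⟩ := IsAlgClosed.exists_pow_nat_eq (algebraMap K S b) he
  have hβ0 : β ≠ 0 := fun h => by
    rw [h, zero_pow he.ne', eq_comm, map_eq_zero] at hβ
    exact hb hβ
  let B' := AdjoinRoot (G.map (algebraMap K S))
  let φ : S[X] →ₐ[R] B' := (AdjoinRoot.mkₐ (G.map (algebraMap K S))).restrictScalars R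
  have hφ : Function.Surjective φ := AdjoinRoot.mk_surjective
  have hker : RingHom.ker φ.toRingHom = Ideal.span {G.map (algebraMap K S)} := Ideal.mk_ker
  have hcoef : ∀ i, IsIntegral R ((G.map (algebraMap K S)).coeff i) := fun i => by
    rw [coeff_map, hGmap, coeff_map, ← IsScalarTower.algebraMap_apply]
    exact isIntegral_algebraMap
  let y' : B' := φ (Y.map (algebraMap K S) * Polynomial.C β⁻¹)
  have hy' : IsIntegral R y' := by
    refine IsIntegral.of_pow he ?_
    obtain ⟨q, hqm, hq⟩ := hint
    refine ⟨q, hqm, ?_⟩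
    have hpow : y' ^ e = φ ((Y ^ e * Polynomial.C b⁻¹).map (algebraMap K S)) := by
      rw [← map_pow, mul_pow, ← Polynomial.map_pow, ← map_pow Polynomial.C, inv_pow, hβ,
        Polynomial.map_mul, map_C, map_inv₀ (algebraMap K S)]
    have hdvd : G ∣ aeval (Y ^ e * Polynomial.C b⁻¹) q := by
      refine minpoly.dvd K θ ?_
      refine (aeval_algHom_apply ((aeval θ).restrictScalars R) (Y ^ e * Polynomial.C b⁻¹) q).symm.trans ?_
      show aeval (aeval θ (Y ^ e * Polynomial.C b⁻¹)) q = 0
      rw [map_mul, map_pow, hY, aeval_C, map_inv₀]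
      exact hq
    rw [← aeval_def, hpow]
    have h2 : aeval ((Y ^ e * Polynomial.C b⁻¹).map (algebraMap K S)) q =
        (aeval (Y ^ e * Polynomial.C b⁻¹) q).map (algebraMap K S) :=
      aeval_algHom_apply ((Polynomial.mapAlgHom (Algebra.ofId K S)).restrictScalars R) _ q
    rw [aeval_algHom_apply, h2]
    obtain ⟨w, hw⟩ := hdvd
    rw [hw, Polynomial.map_mul]
    show AdjoinRoot.mk _ _ = 0
    rw [map_mul, AdjoinRoot.mk_self, zero_mul]
  obtain ⟨g, hg, hgint⟩ := exists_derivative_mul_eq_and_isIntegral_coeff hφ (hGm.map _) hcoef hker hy'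
  -- lift to the integral closure to reduce modulo `G`
  have hrem : h₀.map (algebraMap K S) * Polynomial.C β⁻¹ = g %ₘ G.map (algebraMap K S) := by
    have h1 : φ (derivative (G.map (algebraMap K S)) * (Y.map (algebraMap K S) * Polynomial.C β⁻¹) - g) = 0 := by
      rw [map_sub, map_mul]
      exact sub_eq_zero.mpr hg
    have h2 : G.map (algebraMap K S) ∣
        derivative (G.map (algebraMap K S)) * (Y.map (algebraMap K S) * Polynomial.C β⁻¹) - g :=
      AdjoinRoot.mk_eq_zero.mp h1
    have h3 := (modByMonic_eq_zero_iff_dvd (hGm.map (algebraMap K S))).mpr h2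
    rw [sub_modByMonic, sub_eq_zero] at h3
    rw [← h3, derivative_map, ← mul_assoc, ← Polynomial.map_mul,
      mul_comm ((derivative G * Y).map (algebraMap K S)) (Polynomial.C β⁻¹),
      mul_comm (h₀.map (algebraMap K S)) (Polynomial.C β⁻¹), ← smul_eq_C_mul, ← smul_eq_C_mul, smul_modByMonic, ← map_modByMonic _ hGm]
  have hci : ∀ i, IsIntegral R ((h₀.map (algebraMap K S) * Polynomial.C β⁻¹).coeff i) := fun i => by
    rw [hrem]
    let IC := integralClosure R S
    obtain ⟨g₀, hg₀⟩ := (Polynomial.lifts_iff_coeff_lifts (f := IC.val.toRingHom) g).mpr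
      fun n => ⟨⟨g.coeff n, hgint n⟩, rfl⟩
    obtain ⟨G₀, hG₀, -, hG₀m⟩ := Polynomial.lifts_and_degree_eq_and_monic
      ((Polynomial.lifts_iff_coeff_lifts (f := IC.val.toRingHom) (G.map (algebraMap K S))).mpr
        fun n => ⟨⟨_, hcoef n⟩, rfl⟩) (hGm.map _)
    rw [← hG₀, ← hg₀, coe_mapRingHom, ← map_modByMonic _ hG₀m, coeff_map]
    exact ((g₀ %ₘ G₀).coeff i).2
  have hbR : ∃ r : R, algebraMap R K r = b := by
    refine exists_of_valuation_le_one hW b ?_
    rw [← hval, map_pow]
    refine pow_le_one' ?_ _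
    obtain ⟨q, hqm, hq⟩ := hyint
    by_contra h
    have h1 := valuation_aeval_monic hW (not_le.mp h) hqm
    rw [aeval_def, hq, map_zero] at h1
    exact pow_ne_zero _ (zero_lt_one.trans (not_le.mp h)).ne' h1.symm
  obtain ⟨r, hr⟩ := hbR
  have hpow : ∀ i, ∃ s : R, h₀.coeff i ^ e = algebraMap R K (r * s) := fun i => by
    have h1 : IsIntegral R (algebraMap K S (h₀.coeff i ^ e * b⁻¹)) := by
      have := (hci i).pow e
      rwa [coeff_mul_C, coeff_map, mul_pow, inv_pow, hβ, ← map_pow, ← map_inv₀, ← map_mul] at this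
    obtain ⟨s, hs⟩ := IsIntegrallyClosed.algebraMap_eq_of_integral
      ((isIntegral_algebraMap_iff (algebraMap K S).injective).mp h1)
    exact ⟨s, by rw [map_mul, hr, hs, mul_left_comm, mul_inv_cancel₀ hb, mul_one]⟩
  have hcR : ∀ i, ∃ s : R, algebraMap R K s = h₀.coeff i := fun i => by
    obtain ⟨s, hs⟩ := hpow i
    exact IsIntegrallyClosed.algebraMap_eq_of_integral
      (IsIntegral.of_pow he (hs ▸ isIntegral_algebraMap))
  choose c hc using hcR
  have hy'0 : aeval θ h₀ ≠ 0 := by
    rw [← hyh]
    exact mul_ne_zero (fun h => by rw [h, map_zero] at hθ'; exact zero_ne_one hθ') hy0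
  obtain ⟨j, hj, hjmax⟩ := h₀.support.exists_max_image (fun i => W.valuation (algebraMap R L (c i)))
    (support_nonempty.mpr fun h => hy'0 (by rw [h, map_zero]))
  have hcj : algebraMap R L (c j) ≠ 0 := by
    rw [IsScalarTower.algebraMap_apply R K L, hc, ne_eq, map_eq_zero]
    exact mem_support_iff.mp hj
  have hvcj : W.valuation (algebraMap R L (c j)) ≠ 0 := (Valuation.ne_zero_iff _).mpr hcj
  have hdiv : ∀ i ∈ h₀.support, ∃ s : R, algebraMap R L (c i) = algebraMap R L (c j) * algebraMap R L s := fun i hi => by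
    obtain ⟨s, hs⟩ := exists_of_valuation_le_one hW (algebraMap R K (c i) / algebraMap R K (c j)) (by
      rw [map_div₀, ← IsScalarTower.algebraMap_apply, ← IsScalarTower.algebraMap_apply, map_div₀]
      exact div_le_one_of_le₀ (hjmax i hi) zero_le')
    refine ⟨s, ?_⟩
    rw [IsScalarTower.algebraMap_apply R K L s, hs, map_div₀, ← IsScalarTower.algebraMap_apply,
      ← IsScalarTower.algebraMap_apply, mul_div_cancel₀ _ hcj]
  choose! s hs using hdiv
  let h : R[X] := ∑ i ∈ h₀.support, monomial i (s i)
  have heq : aeval θ h₀ = algebraMap R L (c j) * aeval θ h := by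
    conv_lhs => rw [h₀.as_sum_support]
    rw [map_sum, map_sum, Finset.mul_sum]
    refine Finset.sum_congr rfl fun i hi => ?_
    rw [aeval_monomial, aeval_monomial, ← hc i, ← IsScalarTower.algebraMap_apply, hs i hi, mul_assoc]
  refine ⟨c j, h, ?_, by rw [hyh, heq]⟩
  have hθ1 : W.valuation θ ≤ 1 := by
    obtain ⟨q, hqm, hq⟩ := hθ
    by_contra h
    have h1 := valuation_aeval_monic hW (not_le.mp h) hqm
    rw [aeval_def, hq, map_zero] at h1
    exact pow_ne_zero _ (zero_lt_one.trans (not_le.mp h)).ne' h1.symm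
  have hle := valuation_aeval_le hW hθ1 h
  refine le_antisymm hle ((one_le_pow_iff_of_nonneg zero_le' he.ne').mp ?_)
  -- compare with `b`
  obtain ⟨t, ht⟩ := hpow j
  have h1 : W.valuation (algebraMap R L (c j)) ^ e ≤ W.valuation (y ^ e) := by
    rw [hval, ← map_pow, IsScalarTower.algebraMap_apply R K L, hc, ← map_pow, ht, map_mul, map_mul,
      map_mul, hr, ← IsScalarTower.algebraMap_apply]
    exact mul_le_of_le_one_right' (hW.le t)
  have h2 : W.valuation (y ^ e) = (W.valuation (algebraMap R L (c j)) * W.valuation (aeval θ h)) ^ e := by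
    have := congrArg W.valuation (hyh.trans heq)
    rw [map_mul, map_mul, hθ', one_mul] at this
    rw [map_pow, this]
  rw [h2, mul_pow] at h1
  exact le_of_mul_le_mul_left (by rwa [mul_one]) (zero_lt_iff.mpr (pow_ne_zero _ hvcj))

/-- Every element of the extension that is integral at `W` has the value of an element of `R`. -/
theorem value_attained {W : ValuationSubring L} (hW : Dom R W) {θ : L} (hθ : IsIntegral R θ)
    (hθ' : W.valuation (aeval θ (derivative (minpoly K θ))) = 1)
    {x : L} (hx : x ∈ Algebra.adjoin K {θ}) (hx0 : x ≠ 0) (hxW : W.valuation x ≤ 1) :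
    ∃ (c : R) (h₁ h₂ : R[X]), W.valuation (aeval θ h₁) = 1 ∧ W.valuation (aeval θ h₂) = 1 ∧
      x * aeval θ h₂ = algebraMap R L c * aeval θ h₁ := by
  have hθK : IsIntegral K θ := hθ.tower_top
  have halg : ∀ z ∈ Algebra.adjoin K {θ}, IsAlgebraic K z := fun z hz =>
    (IsIntegral.of_mem_of_fg _ hθK.fg_adjoin_singleton z hz).isAlgebraic
  obtain ⟨e, he, b, hb, hbv⟩ := exists_pow_eq W hx0 (halg x hx)
  have hb' : algebraMap K L b ≠ 0 := by simpa using hb
  let z := x ^ e * (algebraMap K L b)⁻¹
  have hzmem : z ∈ Algebra.adjoin K {θ} := by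
    show x ^ e * (algebraMap K L b)⁻¹ ∈ _
    rw [← map_inv₀]
    exact mul_mem (pow_mem hx _) (Subalgebra.algebraMap_mem _ _)
  have hzv : W.valuation z = 1 := by
    rw [map_mul, map_inv₀, hbv, mul_inv_cancel₀ ((Valuation.ne_zero_iff _).mpr hb')]
  obtain ⟨a, ha, hall⟩ := exists_denominator (R := R) (halg z hzmem)
  have ha' : a ∈ Algebra.adjoin K {θ} :=
    (Algebra.adjoin_le (Set.singleton_subset_iff.mpr hzmem)) ha
  have hva : W.valuation a = 1 := (hall W hW).2.2 hzv.le
  have ha0 : a ≠ 0 := fun h => by rw [h, map_zero] at hva; exact zero_ne_one hva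
  have haint : IsIntegral R a := isIntegral_of_forall a fun W' hW' => (hall W' hW').1
  have hzaint : IsIntegral R (z * a) := isIntegral_of_forall _ fun W' hW' => (hall W' hW').2.1
  obtain ⟨r, hr⟩ := exists_of_valuation_le_one hW b (by
    rw [← hbv, map_pow]; exact pow_le_one' hxW _)
  obtain ⟨e', rfl⟩ := Nat.exists_eq_add_of_le he
  have hquot : (x * a) ^ (1 + e') * (algebraMap K L b)⁻¹ = z * a * a ^ e' := by
    simp only [z]; ring
  have hxaint : IsIntegral R ((x * a) ^ (1 + e') * (algebraMap K L b)⁻¹) := by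
    rw [hquot]; exact hzaint.mul (haint.pow _)
  have hxa : IsIntegral R (x * a) := by
    refine IsIntegral.of_pow he ?_
    have e2 : (x * a) ^ (1 + e') = algebraMap R L r * ((x * a) ^ (1 + e') * (algebraMap K L b)⁻¹) := by
      rw [IsScalarTower.algebraMap_apply R K L, hr, mul_left_comm, mul_inv_cancel₀ hb', mul_one]
    rw [e2]
    exact isIntegral_algebraMap.mul hxaint
  obtain ⟨c, h, hh, hce⟩ := descend hW hθ hθ' (mul_mem hx ha') hxa (mul_ne_zero hx0 ha0) he hb hxaint (by
    rw [mul_pow, map_mul, map_pow W.valuation a, hva, one_pow, mul_one, hbv])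
  obtain ⟨c', h', hh', hce'⟩ := descend hW hθ hθ' ha' haint ha0 (e := 1) one_pos (b := 1) one_ne_zero
    (by rw [pow_one, map_one, inv_one, mul_one]; exact haint) (by rw [pow_one, hva, map_one, map_one])
  refine ⟨c, h, Polynomial.C c' * h', hh, ?_, ?_⟩
  · rw [map_mul, aeval_C, ← hce', map_mul, hθ', one_mul, hva]
  · rw [map_mul, aeval_C, ← hce', ← hce]
    ring

end Groth.Agent.Prufer29
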